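import Mathlib
import Groth.Agent.H33.PC.CohPC
import Groth.Agent.H33.PC.NoethPC
import Groth.Agent.H5.PerfectIff
import Groth.Agent.H5.LocalLiftQis
import Groth.Agent.H16.ExactDer

/-!
# Pseudo-coherence: restriction to opens, zero objects, local cone decomposition
-/

set_option autoImplicit false
universe u
open CategoryTheory CategoryTheory.Limits AlgebraicGeometry Scheme.Modules TopologicalSpace

attribute [local instance] HasDerivedCategory.standard

namespace Groth.Agent.H33.PCPush

open Groth.Agent.H5.PCAlong Groth.Agent.H5.PCTriangle Groth.Agent.H5.PCSummand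
  Groth.Agent.H5.Approx Groth.Agent.H33.PC

variable {X : Scheme.{u}}

/-- pseudo-coherence restricts to opens -/
theorem pc_restrict (m : ℤ) (K : DCoh.D X) (V : X.Opens) (h : DCoh.IsPseudoCoherentD m K) :
    DCoh.IsPseudoCoherentD m ((DCoh.restrictD V.ι).obj K) := by
  let M := DerivedCategory.Q.objPreimage K
  let e : DerivedCategory.Q.obj M ≅ K := DerivedCategory.Q.objObjPreimageIso K
  have eV : DerivedCategory.Q.obj ((resCx V.ι).obj M) ≅ (DCoh.restrictD V.ι).obj K :=
    ((restrictFunctor V.ι).mapDerivedCategoryFactors.app M).symm ≪≫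
      (DCoh.restrictD V.ι).mapIso e
  rw [isPseudoCoherentD_iff eV m]
  intro y
  exact Groth.Agent.H5.PerfectIff.isPCAt_restrict V.ι M y ((isPseudoCoherentD_iff e m).1 h _)

/-- zero objects are pseudo-coherent -/
theorem pc_of_isZero (m : ℤ) (K : DCoh.D X) (h : IsZero K) : DCoh.IsPseudoCoherentD m K := by
  have : K.IsLE (m - 1) := by
    rw [DerivedCategory.isLE_iff]
    intro j _
    exact (DerivedCategory.homologyFunctor X.Modules j).map_isZero h
  exact pc_of_isLE K (m - 1) m this (by omega)

/-- local cone decomposition of a pseudo-coherent complex -/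
lemma exists_local_cone (m : ℤ) (F : CochainComplex X.Modules ℤ) (z : X) (h : IsPCAt m F z) :
    ∃ (V : X.Opens) (P : CochainComplex (V : Scheme.{u}).Modules ℤ) (β : P ⟶ (resCx V.ι).obj F),
      z ∈ V ∧ DCoh.IsStrictlyPerfect P ∧
        ∀ i : ℤ, m ≤ i → IsZero ((CochainComplex.mappingCone β).homology i) := by
  obtain ⟨W, j, _, hz, hj⟩ := h
  obtain ⟨P, β, hP, hβ⟩ := isPCChainAlong_opensRange j F hj
  rw [isApprox_Q_map_iff] at hβ
  exact ⟨j.opensRange, P, β, hz, hP,
    Groth.Agent.H5.LocalLiftQis.isZero_homology_mappingCone β m hβ.1 hβ.2⟩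

attribute [local instance] preservesBinaryBiproducts_of_preservesBiproducts
open ZeroObject

/-- modules which, placed in degree `0`, are `m`-pseudo-coherent for all `m` -/
def pmAll (X : Scheme.{u}) : ObjectProperty X.Modules :=
  fun M => ∀ m : ℤ, DCoh.IsPseudoCoherentD m (DCoh.inD X M)

lemma pmAll_of_iso {M N : X.Modules} (e : M ≅ N) (h : pmAll X M) : pmAll X N :=
  fun m => isPseudoCoherentD_of_iso ((DerivedCategory.singleFunctor X.Modules 0).mapIso e) (h m)

lemma pmAll_of_isZero {M : X.Modules} (h : IsZero M) : pmAll X M :=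
  fun m => pc_of_isZero m _ ((DerivedCategory.singleFunctor X.Modules 0).map_isZero h)

lemma pmAll_biprod {M N : X.Modules} (hM : pmAll X M) (hN : pmAll X N) : pmAll X (M ⊞ N) := by
  intro m
  have e : DCoh.inD X (M ⊞ N) ≅ DCoh.inD X M ⊞ DCoh.inD X N :=
    (DerivedCategory.singleFunctor X.Modules 0).mapBiprod M N
  refine isPseudoCoherentD_of_iso e.symm ?_
  exact (triangle m _ (Pretriangulated.binaryBiproductTriangle_distinguished
    (DCoh.inD X M) (DCoh.inD X N))).2.1 (hM m) (hN m)

instance : (pmAll X).IsClosedUnderIsomorphisms where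
  of_iso e h := pmAll_of_iso e h

instance : (pmAll X).ContainsZero where
  exists_zero := ⟨0, isZero_zero _, pmAll_of_isZero (isZero_zero _)⟩

instance : (pmAll X).IsClosedUnderBinaryCoproducts where
  colimitsOfShape_le := by
    rintro M ⟨p⟩
    have hA := p.prop_diag_obj (.mk .left)
    have hB := p.prop_diag_obj (.mk .right)
    refine pmAll_of_iso ?_ (pmAll_biprod hA hB)
    exact IsColimit.coconePointUniqueUpToIso
      (BinaryBiproduct.isColimit (p.diag.obj ⟨.left⟩) (p.diag.obj ⟨.right⟩))
      ((IsColimit.precomposeHomEquiv (diagramIsoPair p.diag).symm _).2 p.isColimit)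

instance : (pmAll X).IsClosedUnderFiniteCoproducts := .mk'

lemma pmAll_coproduct {J : Type} [Finite J] (f : J → X.Modules) (h : ∀ j, pmAll X (f j)) :
    pmAll X (∐ f) :=
  (pmAll X).prop_coproduct h


lemma pmAll_restrict {N : X.Modules} (h : pmAll X N) (W : X.Opens) :
    pmAll W (N.restrict W.ι) :=
  fun m => isPseudoCoherentD_of_iso
    (Groth.Agent.H16.ExactDer.singleIso (restrictFunctor W.ι) N 0) (pc_restrict m _ W (h m))

lemma pmAll_of_locally {N : X.Modules}
    (h : ∀ x : X, ∃ W : X.Opens, x ∈ W ∧ pmAll W (N.restrict W.ι)) : pmAll X N := by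
  intro m
  refine isPseudoCoherentD_of_locally m _ (fun x => ?_)
  obtain ⟨W, hx, hW⟩ := h x
  exact ⟨W, hx, isPseudoCoherentD_of_iso
    (Groth.Agent.H16.ExactDer.singleIso (restrictFunctor W.ι) N 0).symm (hW m)⟩

end Groth.Agent.H33.PCPush
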