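import Mathlib
import Groth.Agent.H33.PCPush.Basic
import Groth.Agent.H33.PCPush.BoundedInd
import Groth.Agent.H33.SchemeDer.BaseChange
import Groth.Agent.H33.Glue.MapDComp
import Groth.Agent.H33.RelPC.Chart
import Groth.Agent.H5.Stalk.PushClosedColim
import Groth.Agent.H16.ExactDer

/-!
# Pushforward along a closed immersion and pseudo-coherence
-/

set_option autoImplicit false
universe u
open CategoryTheory CategoryTheory.Limits AlgebraicGeometry Scheme.Modules TopologicalSpace

attribute [local instance] HasDerivedCategory.standard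

namespace Groth.Agent.H33.PCPush

open Groth.Agent.H5.PCAlong Groth.Agent.H5.PCTriangle Groth.Agent.H5.PCSummand
  Groth.Agent.H5.Approx Groth.Agent.H33.PC Groth.Agent.H16.ExactDer

variable {Z X : Scheme.{u}} (i : Z ⟶ X) [IsClosedImmersion i]

/-- the derived pushforward along a closed immersion -/
noncomputable abbrev pushD : DCoh.D Z ⥤ DCoh.D X :=
  (Scheme.Modules.pushforward i).mapDerivedCategory

/-- restriction to an open commutes with the derived pushforward along a closed immersion -/
noncomputable def pushDRestrictIso (W : X.Opens) :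
    pushD i ⋙ DCoh.restrictD W.ι ≅ DCoh.restrictD (i ⁻¹ᵁ W).ι ⋙ pushD (i ∣_ W) :=
  Groth.Agent.H33.Glue.mapDerivedCategoryCompIso (Scheme.Modules.pushforward i)
      (restrictFunctor W.ι) (Scheme.Modules.pushforward i ⋙ restrictFunctor W.ι) (Iso.refl _) ≪≫
    (Groth.Agent.H33.Glue.mapDerivedCategoryCompIso (restrictFunctor (i ⁻¹ᵁ W).ι)
      (Scheme.Modules.pushforward (i ∣_ W)) (Scheme.Modules.pushforward i ⋙ restrictFunctor W.ι)
      (Groth.Agent.H33.SchemeDer.baseChangeIso i W).symm).symm

omit [IsClosedImmersion i] in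
/-- the pushforward of any module vanishes on opens disjoint from the image -/
lemma isZero_restrict_push_of_disjoint (M : Z.Modules) (W : X.Opens)
    (hW : Disjoint (W : Set X) (Set.range i)) :
    IsZero (((Scheme.Modules.pushforward i).obj M).restrict W.ι) := by
  refine Groth.Agent.H71.QCoh.isZero_of_subsingleton_sections _ (fun O => ?_)
  have h0 : i ⁻¹ᵁ (W.ι ''ᵁ O) = ⊥ := by
    ext z
    simp only [Opens.coe_bot, Set.mem_empty_iff_false, iff_false]
    intro hz
    have h1 : i z ∈ (W : Set X) := W.ι_image_le O hz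
    exact Set.disjoint_left.1 hW h1 ⟨z, rfl⟩
  change Subsingleton Γ(M, i ⁻¹ᵁ (W.ι ''ᵁ O))
  rw [h0]
  exact Groth.Agent.H5.Stalk.subsingleton_sections_bot M

/-- the derived pushforward is t-exact (right half) -/
lemma isLE_pushD (E : DCoh.D Z) (b : ℤ) [E.IsLE b] : ((pushD i).obj E).IsLE b := by
  rw [DerivedCategory.isLE_iff]
  intro j hj
  exact IsZero.of_iso ((Scheme.Modules.pushforward i).map_isZero
    (DerivedCategory.isZero_of_isLE E b j hj))
    ((homologyNatIso (Scheme.Modules.pushforward i) j).app E)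

/-- the pushforward is pseudo-coherent away from the image -/
lemma pc_restrict_push_of_disjoint (E : DCoh.D Z) (W : X.Opens)
    (hW : Disjoint (W : Set X) (Set.range i)) (m : ℤ) :
    DCoh.IsPseudoCoherentD m ((DCoh.restrictD W.ι).obj ((pushD i).obj E)) := by
  have : ((DCoh.restrictD W.ι).obj ((pushD i).obj E)).IsLE (m - 1) := by
    rw [DerivedCategory.isLE_iff]
    intro j _
    refine IsZero.of_iso ?_ ((homologyNatIso (restrictFunctor W.ι) j).app ((pushD i).obj E))
    refine IsZero.of_iso (isZero_restrict_push_of_disjoint i (DCoh.HD E j) W hW)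
      ((restrictFunctor W.ι).mapIso ((homologyNatIso (Scheme.Modules.pushforward i) j).app E))
  exact pc_of_isLE _ (m - 1) m this (by omega)


/-- the hypothesis on the structure sheaf restricts to opens -/
lemma pmAll_push_unit_restrict (hO : pmAll X ((Scheme.Modules.pushforward i).obj
    (Coh.structureModule Z))) (W : X.Opens) :
    pmAll W ((Scheme.Modules.pushforward (i ∣_ W)).obj
      (Coh.structureModule (i ⁻¹ᵁ W : Z.Opens))) := by
  refine pmAll_of_iso ?_ (pmAll_restrict hO W)
  exact (Groth.Agent.H33.SchemeDer.baseChangeIso i W).app _ ≪≫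
    (Scheme.Modules.pushforward (i ∣_ W)).mapIso (Scheme.Modules.restrictUnitIso (i ⁻¹ᵁ W).ι)

/-- the pushforward of a finite locally free module is pseudo-coherent -/
theorem pmAll_push_of_isFinLocFree (hO : pmAll X ((Scheme.Modules.pushforward i).obj
    (Coh.structureModule Z))) (M : Z.Modules) (hM : FlatMod.IsFinLocFree M) :
    pmAll X ((Scheme.Modules.pushforward i).obj M) := by
  refine pmAll_of_locally (fun x => ?_)
  by_cases hx : x ∈ Set.range i
  · obtain ⟨z, rfl⟩ := hx
    obtain ⟨V, r, hzV, ⟨e⟩⟩ := hM z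
    obtain ⟨W, rfl⟩ := Groth.Agent.H5.Stalk.exists_preimage_eq i i.isClosedEmbedding.isInducing V
    refine ⟨W, hzV, ?_⟩
    have e1 : ((Scheme.Modules.pushforward i).obj M).restrict W.ι ≅
        ∐ fun _ : Fin r => (Scheme.Modules.pushforward (i ∣_ W)).obj
          (Coh.structureModule (i ⁻¹ᵁ W : Z.Opens)) :=
      (Groth.Agent.H33.SchemeDer.baseChangeIso i W).app M ≪≫
        (Scheme.Modules.pushforward (i ∣_ W)).mapIso e ≪≫
        PreservesCoproduct.iso (Scheme.Modules.pushforward (i ∣_ W))
          (fun _ : Fin r => Coh.structureModule (i ⁻¹ᵁ W : Z.Opens))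
    exact pmAll_of_iso e1.symm (pmAll_coproduct _ (fun _ => pmAll_push_unit_restrict i hO W))
  · let W : X.Opens := ⟨(Set.range i)ᶜ, i.isClosedEmbedding.isClosed_range.isOpen_compl⟩
    exact ⟨W, hx, pmAll_of_isZero (isZero_restrict_push_of_disjoint i M W disjoint_compl_left)⟩

/-- the pushforward of a strictly perfect complex is pseudo-coherent -/
theorem pc_pushD_of_isStrictlyPerfect (hO : pmAll X ((Scheme.Modules.pushforward i).obj
    (Coh.structureModule Z))) (P : CochainComplex Z.Modules ℤ) (hP : DCoh.IsStrictlyPerfect P)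
    (m : ℤ) : DCoh.IsPseudoCoherentD m ((pushD i).obj (DerivedCategory.Q.obj P)) := by
  obtain ⟨⟨a, b, hab⟩, hfl⟩ := hP
  refine induction_bounded (fun K => ∀ m : ℤ, DCoh.IsPseudoCoherentD m ((pushD i).obj K))
    FlatMod.IsFinLocFree (fun M N e h => Groth.Agent.H33.Perf.isFinLocFree_of_iso' e h)
    (fun K hK m => pc_of_isZero m _ ((pushD i).map_isZero hK))
    (fun T hT h₁ h₃ m => (triangle m _ ((pushD i).map_distinguished T hT)).2.1 (h₁ m) (h₃ m))
    (fun M j hM m => ?_) P a b hab (fun j _ _ => hfl j) m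
  have e1 : (pushD i).obj (DerivedCategory.Q.obj
      ((HomologicalComplex.single Z.Modules (ComplexShape.up ℤ) j).obj M)) ≅
      (DerivedCategory.singleFunctor X.Modules j).obj ((Scheme.Modules.pushforward i).obj M) :=
    (pushD i).mapIso ((DerivedCategory.singleFunctorIsoCompQ Z.Modules j).app M).symm ≪≫
      singleIso (Scheme.Modules.pushforward i) M j
  have e2 : (DerivedCategory.singleFunctor X.Modules j).obj
      ((Scheme.Modules.pushforward i).obj M) ≅
      (DCoh.inD X ((Scheme.Modules.pushforward i).obj M))⟦-j⟧ :=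
    (((DerivedCategory.singleFunctors X.Modules).shiftIso (-j) j 0 (by omega)).app _).symm
  refine isPseudoCoherentD_of_iso (e1 ≪≫ e2).symm ?_
  exact isPseudoCoherentD_shift _ (-j) m (show -j + m = m - j by omega)
    (pmAll_push_of_isFinLocFree i hO M hM (m - j))


lemma isLE_Q_of_isZero_homology {C : Type*} [Category C] [Abelian C] [HasDerivedCategory C]
    (K : CochainComplex C ℤ) (n : ℤ) (h : ∀ j : ℤ, n < j → IsZero (K.homology j)) :
    (DerivedCategory.Q.obj K).IsLE n := by
  rw [DerivedCategory.isLE_iff]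
  intro j hj
  exact IsZero.of_iso (h j hj) ((DerivedCategory.homologyFunctorFactors C j).app K)

/-- pseudo-coherence is preserved by pushforward along a closed immersion with pseudo-coherent
structure sheaf -/
theorem pc_pushD (hO : pmAll X ((Scheme.Modules.pushforward i).obj (Coh.structureModule Z)))
    (E : DCoh.D Z) (m : ℤ) (h : DCoh.IsPseudoCoherentD m E) :
    DCoh.IsPseudoCoherentD m ((pushD i).obj E) := by
  refine isPseudoCoherentD_of_locally m _ (fun x => ?_)
  by_cases hx : x ∈ Set.range i
  · obtain ⟨z, rfl⟩ := hx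
    let F := DerivedCategory.Q.objPreimage E
    let e : DerivedCategory.Q.obj F ≅ E := DerivedCategory.Q.objObjPreimageIso E
    obtain ⟨V, P, β, hzV, hP, hcone⟩ :=
      exists_local_cone m F z ((isPseudoCoherentD_iff e m).1 h z)
    obtain ⟨W, rfl⟩ := Groth.Agent.H5.Stalk.exists_preimage_eq i i.isClosedEmbedding.isInducing V
    refine ⟨W, hzV, ?_⟩
    let T := DerivedCategory.Q.mapTriangle.obj (CochainComplex.mappingCone.triangle β)
    have hT : T ∈ distTriang _ := (DerivedCategory.mem_distTriang_iff T).2 ⟨_, _, β, ⟨Iso.refl _⟩⟩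
    have hT' := (pushD (i ∣_ W)).map_distinguished T hT
    have h1 : DCoh.IsPseudoCoherentD m ((pushD (i ∣_ W)).obj (DerivedCategory.Q.obj P)) :=
      pc_pushD_of_isStrictlyPerfect (i ∣_ W) (pmAll_push_unit_restrict i hO W) P hP m
    have h3 : DCoh.IsPseudoCoherentD m
        ((pushD (i ∣_ W)).obj (DerivedCategory.Q.obj (CochainComplex.mappingCone β))) := by
      have : (DerivedCategory.Q.obj (CochainComplex.mappingCone β)).IsLE (m - 1) :=
        isLE_Q_of_isZero_homology _ _ (fun j hj => hcone j (by omega))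
      have := isLE_pushD (i ∣_ W) (DerivedCategory.Q.obj (CochainComplex.mappingCone β)) (m - 1)
      exact pc_of_isLE _ (m - 1) m this (by omega)
    have h2 := (triangle m _ hT').2.1 h1 h3
    have e2 : (pushD (i ∣_ W)).obj (DerivedCategory.Q.obj ((resCx (i ⁻¹ᵁ W).ι).obj F)) ≅
        (DCoh.restrictD W.ι).obj ((pushD i).obj E) :=
      (pushD (i ∣_ W)).mapIso (((restrictFunctor (i ⁻¹ᵁ W).ι).mapDerivedCategoryFactors.app F).symm ≪≫
        (DCoh.restrictD (i ⁻¹ᵁ W).ι).mapIso e) ≪≫ ((pushDRestrictIso i W).app E).symm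
    exact isPseudoCoherentD_of_iso e2 h2
  · let W : X.Opens := ⟨(Set.range i)ᶜ, i.isClosedEmbedding.isClosed_range.isOpen_compl⟩
    exact ⟨W, hx, pc_restrict_push_of_disjoint i E W disjoint_compl_left m⟩

end Groth.Agent.H33.PCPush
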