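import Mathlib
import Groth.Agent.H33.PCPush.Push
import Groth.Agent.H5.PullbackUnit

/-!
# Pseudo-coherence is reflected by pushforward along a closed immersion
-/

set_option autoImplicit false
universe u
open CategoryTheory CategoryTheory.Limits AlgebraicGeometry Scheme.Modules TopologicalSpace

attribute [local instance] HasDerivedCategory.standard

namespace Groth.Agent.H33.PCPush

open Groth.Agent.H5.PCAlong Groth.Agent.H5.PCTriangle Groth.Agent.H5.PCSummand
  Groth.Agent.H5.Approx Groth.Agent.H33.PC Groth.Agent.H16.ExactDer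

variable {Z X : Scheme.{u}} (i : Z ⟶ X) [IsClosedImmersion i] in
/-- pushforward along a closed immersion is faithful -/
instance faithful_pushforward : (Scheme.Modules.pushforward i).Faithful where
  map_injective {M N f g} h := by
    refine Scheme.Modules.hom_ext f g (fun U => ?_)
    obtain ⟨W, rfl⟩ := Groth.Agent.H5.Stalk.exists_preimage_eq i i.isClosedEmbedding.isInducing U
    exact congrArg (fun t => Scheme.Modules.Hom.app t W) h

variable {Z X : Scheme.{u}} (i : Z ⟶ X) [IsClosedImmersion i] in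
/-- finite generation is reflected by pushforward along a closed immersion -/
theorem locFinGen_of_push (M : Z.Modules)
    (h : LocFinGen ((Scheme.Modules.pushforward i).obj M)) : LocFinGen M := by
  intro z
  obtain ⟨W, n, q, hzW, hq⟩ := h (i z)
  let adj := Scheme.Modules.pullbackPushforwardAdjunction (i ∣_ W)
  let q₁ : FlatMod.freeMod (W : Scheme.{u}) n ⟶
      (Scheme.Modules.pushforward (i ∣_ W)).obj (M.restrict (i ⁻¹ᵁ W).ι) :=
    q ≫ (Groth.Agent.H33.SchemeDer.baseChangeIso i W).hom.app M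
  have hq₁ : Epi q₁ := epi_comp _ _
  let q₂ := (adj.homEquiv _ _).symm q₁
  have hq₂ : q₁ = adj.unit.app _ ≫ (Scheme.Modules.pushforward (i ∣_ W)).map q₂ := by
    have := adj.homEquiv_unit (f := q₂)
    rw [← this]
    exact (Equiv.apply_symm_apply _ _).symm
  have h3 : Epi ((Scheme.Modules.pushforward (i ∣_ W)).map q₂) := by
    rw [hq₂] at hq₁
    exact epi_of_epi (adj.unit.app _) _
  have h4 : Epi q₂ := (Scheme.Modules.pushforward (i ∣_ W)).epi_of_epi_map h3
  refine ⟨i ⁻¹ᵁ W, n, (Groth.Agent.H5.PullbackUnit.pullbackFreeIso (i ∣_ W) n).inv ≫ q₂, hzW, ?_⟩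
  exact epi_comp _ _

section Top

open DerivedCategory DerivedCategory.TStructure Pretriangulated

variable {X : Scheme.{u}}

lemma pc_mono {m m' : ℤ} (hm : m ≤ m') (K : DCoh.D X) (h : DCoh.IsPseudoCoherentD m K) :
    DCoh.IsPseudoCoherentD m' K := by
  let M := DerivedCategory.Q.objPreimage K
  let e : DerivedCategory.Q.obj M ≅ K := DerivedCategory.Q.objObjPreimageIso K
  rw [isPseudoCoherentD_iff e m']
  intro x
  exact isPCAt_of_le hm M x ((isPseudoCoherentD_iff e m).1 h x)

/-- an object bounded above by `b` whose top cohomology is locally finitely generated is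
`b`-pseudo-coherent -/
theorem pc_top_of_locFinGen (K : DCoh.D X) (b : ℤ) [K.IsLE b] (hFT : LocFinGen (DCoh.HD K b)) :
    DCoh.IsPseudoCoherentD b K := by
  let T := (t.triangleLEGE (b - 1) b (by omega)).obj K
  have hT : T ∈ distTriang _ := t.triangleLEGE_distinguished (b - 1) b (by omega) K
  have hle : T.obj₁.IsLE (b - 1) :=
    inferInstanceAs (t.IsLE ((t.truncLE (b - 1)).obj K) (b - 1))
  have h₁ : DCoh.IsPseudoCoherentD b T.obj₁ := pc_of_isLE T.obj₁ (b - 1) b hle (by omega)
  have hge : T.obj₃.IsGE b := inferInstanceAs (t.IsGE ((t.truncGE b).obj K) b)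
  have hle₃ : T.obj₃.IsLE b := by
    rw [DerivedCategory.isLE_iff]
    intro i hi
    have := isIso_homology_truncGEπ K b i (by omega)
    exact IsZero.of_iso (DerivedCategory.isZero_of_isLE K b i hi)
      (asIso ((homologyFunctor _ i).map ((t.truncGEπ b).app K))).symm
  obtain ⟨Y, ⟨e⟩⟩ := DerivedCategory.exists_iso_singleFunctor_obj_of_isGE_of_isLE T.obj₃ b
  have hY : LocFinGen Y := by
    have := isIso_homology_truncGEπ K b b le_rfl
    exact locFinGen_of_iso
      (asIso ((homologyFunctor _ b).map ((t.truncGEπ b).app K)) ≪≫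
        (homologyFunctor _ b).mapIso e ≪≫
        (DerivedCategory.singleFunctorCompHomologyFunctorIso X.Modules b).app Y) hFT
  have h₃ : DCoh.IsPseudoCoherentD b T.obj₃ := by
    have h0 := isPseudoCoherentD_shift (DCoh.inD X Y) (-b) b (m := 0) (by omega)
      (pc_single_of_isFT Y (isFT_of_locFinGen Y hY))
    exact isPseudoCoherentD_of_iso
      (((DerivedCategory.singleFunctors X.Modules).shiftIso (-b) b 0 (by omega)).app Y ≪≫
        e.symm) h0
  exact (triangle b T hT).2.1 h₁ h₃

end Top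

section Conv

variable {X : Scheme.{u}}

lemma pc_Q_of_isStrictlyPerfect (P : CochainComplex X.Modules ℤ) (hP : DCoh.IsStrictlyPerfect P)
    (m : ℤ) : DCoh.IsPseudoCoherentD m (DCoh.toD X P) := by
  intro x
  refine ⟨⊤, trivial, fun F ⟨eF⟩ => ?_⟩
  let φ : DerivedCategory.Q.obj ((DCoh.restrictCx (⊤ : X.Opens)).obj P) ≅
      DerivedCategory.Q.obj ((DCoh.restrictCx (⊤ : X.Opens)).obj F) :=
    ((restrictFunctor (⊤ : X.Opens).ι).mapDerivedCategoryFactors.app P).symm ≪≫
      (DCoh.restrictD (⊤ : X.Opens).ι).mapIso eF.symm ≪≫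
      (restrictFunctor (⊤ : X.Opens).ι).mapDerivedCategoryFactors.app F
  exact ⟨(DCoh.restrictCx (⊤ : X.Opens)).obj P, φ.hom,
    Groth.Agent.H33.Perf.isStrictlyPerfect_restrict (⊤ : X.Opens).ι P hP, fun i _ => inferInstance, inferInstance⟩

/-- a pseudo-coherent object is locally bounded above -/
lemma exists_local_isLE (m : ℤ) (K : DCoh.D X) (hK : DCoh.IsPseudoCoherentD m K) (x : X) :
    ∃ (V : X.Opens) (b : ℤ), x ∈ V ∧ ((DCoh.restrictD V.ι).obj K).IsLE b := by
  obtain ⟨V, E, β, hxV, hE, hiso, -⟩ := exists_local_data m K hK x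
  obtain ⟨⟨a, b, hab⟩, -⟩ := hE
  refine ⟨V, max b m, hxV, ?_⟩
  rw [DerivedCategory.isLE_iff]
  intro j hj
  refine IsZero.of_iso ?_ ((homologyNatIso (restrictFunctor V.ι) j).app K)
  have := hiso j (by omega)
  refine IsZero.of_iso ?_ (asIso (β j)).symm
  exact ShortComplex.isZero_homology_of_isZero_X₂ _ (hab j (Or.inr (by omega)))

/-- the converse: induction on the top degree -/
theorem pc_of_pc_pushD_aux (m : ℤ) : ∀ (n : ℕ) {Z X : Scheme.{u}} (i : Z ⟶ X)
    [IsClosedImmersion i]
    (_ : pmAll X ((Scheme.Modules.pushforward i).obj (Coh.structureModule Z)))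
    (E : DCoh.D Z) (b : ℤ), E.IsLE b → b < m + n →
    DCoh.IsPseudoCoherentD m ((pushD i).obj E) → DCoh.IsPseudoCoherentD m E
  | 0, Z, X, i, _, hO, E, b, hb, hbm, _ => pc_of_isLE E b m hb (by omega)
  | n + 1, Z, X, i, _, hO, E, b, hb, hbm, h => by
    rcases lt_or_ge b m with hlt | hge
    · exact pc_of_isLE E b m hb hlt
    · have := isLE_pushD i E b
      have h_b : DCoh.IsPseudoCoherentD b ((pushD i).obj E) := pc_mono hge _ h
      have h2 : LocFinGen (DCoh.HD ((pushD i).obj E) b) :=
        isFT_HD b _ h_b (fun j hj => DerivedCategory.isZero_of_isLE _ b j hj)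
      have h3 : LocFinGen ((Scheme.Modules.pushforward i).obj (DCoh.HD E b)) :=
        locFinGen_of_iso ((homologyNatIso (Scheme.Modules.pushforward i) b).app E) h2
      have h4 : LocFinGen (DCoh.HD E b) := locFinGen_of_push i _ h3
      have h5 : DCoh.IsPseudoCoherentD b E := pc_top_of_locFinGen E b h4
      refine isPseudoCoherentD_of_locally m E (fun z => ?_)
      let F := DerivedCategory.Q.objPreimage E
      let e : DerivedCategory.Q.obj F ≅ E := DerivedCategory.Q.objObjPreimageIso E
      obtain ⟨V, P, β, hzV, hP, hcone⟩ :=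
        exists_local_cone b F z ((isPseudoCoherentD_iff e b).1 h5 z)
      obtain ⟨W, rfl⟩ :=
        Groth.Agent.H5.Stalk.exists_preimage_eq i i.isClosedEmbedding.isInducing V
      refine ⟨i ⁻¹ᵁ W, hzV, ?_⟩
      let T := DerivedCategory.Q.mapTriangle.obj (CochainComplex.mappingCone.triangle β)
      have hT : T ∈ distTriang _ :=
        (DerivedCategory.mem_distTriang_iff T).2 ⟨_, _, β, ⟨Iso.refl _⟩⟩
      have hT' := (pushD (i ∣_ W)).map_distinguished T hT
      have hO' := pmAll_push_unit_restrict i hO W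
      have hC : (DerivedCategory.Q.obj (CochainComplex.mappingCone β)).IsLE (b - 1) :=
        isLE_Q_of_isZero_homology _ _ (fun j hj => hcone j (by omega))
      have eV : DerivedCategory.Q.obj ((resCx (i ⁻¹ᵁ W).ι).obj F) ≅
          (DCoh.restrictD (i ⁻¹ᵁ W).ι).obj E :=
        ((restrictFunctor (i ⁻¹ᵁ W).ι).mapDerivedCategoryFactors.app F).symm ≪≫
          (DCoh.restrictD (i ⁻¹ᵁ W).ι).mapIso e
      have e2 : (pushD (i ∣_ W)).obj (DerivedCategory.Q.obj ((resCx (i ⁻¹ᵁ W).ι).obj F)) ≅
          (DCoh.restrictD W.ι).obj ((pushD i).obj E) :=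
        (pushD (i ∣_ W)).mapIso eV ≪≫ ((pushDRestrictIso i W).app E).symm
      have h2' : DCoh.IsPseudoCoherentD m
          ((pushD (i ∣_ W)).obj (DerivedCategory.Q.obj ((resCx (i ⁻¹ᵁ W).ι).obj F))) :=
        isPseudoCoherentD_of_iso e2.symm (pc_restrict m _ W h)
      have h1' : DCoh.IsPseudoCoherentD (m + 1)
          ((pushD (i ∣_ W)).obj (DerivedCategory.Q.obj P)) :=
        pc_pushD_of_isStrictlyPerfect (i ∣_ W) hO' P hP (m + 1)
      have h3' : DCoh.IsPseudoCoherentD m
          ((pushD (i ∣_ W)).obj (DerivedCategory.Q.obj (CochainComplex.mappingCone β))) :=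
        (triangle m _ hT').1 h1' h2'
      have hCm : DCoh.IsPseudoCoherentD m
          (DerivedCategory.Q.obj (CochainComplex.mappingCone β)) :=
        pc_of_pc_pushD_aux m n (i ∣_ W) hO' _ (b - 1) hC (by push_cast at hbm; omega) h3'
      have hPm : DCoh.IsPseudoCoherentD m (DerivedCategory.Q.obj P) :=
        pc_Q_of_isStrictlyPerfect P hP m
      exact isPseudoCoherentD_of_iso eV ((triangle m T hT).2.1 hPm hCm)

/-- pseudo-coherence is reflected by pushforward along a closed immersion with pseudo-coherent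
structure sheaf -/
theorem pc_of_pc_pushD {Z : Scheme.{u}} (i : Z ⟶ X) [IsClosedImmersion i]
    (hO : pmAll X ((Scheme.Modules.pushforward i).obj (Coh.structureModule Z)))
    (E : DCoh.D Z) (m : ℤ) (h : DCoh.IsPseudoCoherentD m ((pushD i).obj E)) :
    DCoh.IsPseudoCoherentD m E := by
  refine isPseudoCoherentD_of_locally m E (fun z => ?_)
  obtain ⟨W, b, hzW, hb⟩ := exists_local_isLE m _ h (i z)
  refine ⟨i ⁻¹ᵁ W, hzW, ?_⟩
  have e2 : (pushD (i ∣_ W)).obj ((DCoh.restrictD (i ⁻¹ᵁ W).ι).obj E) ≅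
      (DCoh.restrictD W.ι).obj ((pushD i).obj E) := ((pushDRestrictIso i W).app E).symm
  have hE' : ((DCoh.restrictD (i ⁻¹ᵁ W).ι).obj E).IsLE b := by
    rw [DerivedCategory.isLE_iff]
    intro j hj
    refine Groth.Agent.H33.RelPC.isZero_of_isZero_pushforward (i ∣_ W) _ ?_
    refine IsZero.of_iso ?_ ((homologyNatIso (Scheme.Modules.pushforward (i ∣_ W)) j).app _).symm
    exact IsZero.of_iso (DerivedCategory.isZero_of_isLE _ b j hj)
      ((DerivedCategory.homologyFunctor _ j).mapIso e2)
  exact pc_of_pc_pushD_aux m (b - m + 1).toNat (i ∣_ W) (pmAll_push_unit_restrict i hO W) _ b hE'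
    (by omega) (isPseudoCoherentD_of_iso e2.symm (pc_restrict m _ W h))

end Conv

end Groth.Agent.H33.PCPush
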