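/-
# Killing the top cohomology of a bounded above complex by a map from a projective object (helper33)
-/
import Mathlib
import Groth.Agent.H5.LocalLiftQis
import Groth.Agent.H33.PC.Single

set_option autoImplicit false
universe w v u
open CategoryTheory CategoryTheory.Limits

namespace Groth.Agent.H33.PCPush

section Cone

variable {C : Type u} [Category.{v} C] [Abelian C] [HasDerivedCategory.{w} C]

open HomologicalComplex

/-- Given a complex `K` vanishing above `b` and an epimorphism `q : F ⟶ H^b(K)` from a projective
object, there is a chain map `F[-b] ⟶ K` whose cone is acyclic in degrees `≥ b`. -/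
theorem exists_map_single_cone (K : CochainComplex C ℤ) (b : ℤ)
    (hK : ∀ i : ℤ, b < i → IsZero (K.X i)) (F : C) [Projective F] (q : F ⟶ K.homology b) [Epi q] :
    ∃ s : (HomologicalComplex.single C (ComplexShape.up ℤ) b).obj F ⟶ K,
      ∀ i : ℤ, b ≤ i → IsZero ((CochainComplex.mappingCone s).homology i) := by
  have hd : K.d b (b + 1) = 0 := (hK (b + 1) (by omega)).eq_of_tgt _ _
  have hι : IsIso (K.homologyι b) := K.isIso_homologyι b (b + 1) (by simp) hd
  let qt : F ⟶ K.X b := Projective.factorThru (q ≫ K.homologyι b) (K.pOpcycles b)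
  have hqt : qt ≫ K.pOpcycles b = q ≫ K.homologyι b := Projective.factorThru_comp _ _
  let s : (HomologicalComplex.single C (ComplexShape.up ℤ) b).obj F ⟶ K :=
    HomologicalComplex.mkHomFromSingle qt (by
      intro j hj
      have : j = b + 1 := by simpa using hj.symm
      subst this
      rw [hd, comp_zero])
  refine ⟨s, Groth.Agent.H5.LocalLiftQis.isZero_homology_mappingCone s b (fun j hj => ?_) ?_⟩
  · refine Groth.Agent.H33.PC.isIso_of_isZero' _ ?_ ?_
    · exact HomologicalComplex.isZero_single_obj_homology _ _ _ _ (by omega)
    · exact ShortComplex.isZero_homology_of_isZero_X₂ _ (hK j hj)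
  · let S := (HomologicalComplex.single C (ComplexShape.up ℤ) b).obj F
    have hSd : S.d b (b + 1) = 0 := by simp [S]
    have hSi : IsIso (S.iCycles b) := S.isIso_iCycles b (b + 1) (by simp) hSd
    have key : (cyclesMap s b ≫ K.homologyπ b) ≫ K.homologyι b =
        S.iCycles b ≫ (HomologicalComplex.singleObjXSelf (ComplexShape.up ℤ) b F).hom ≫ q ≫
          K.homologyι b := by
      rw [Category.assoc, homology_π_ι, ← Category.assoc, cyclesMap_i, Category.assoc,
        HomologicalComplex.mkHomFromSingle_f, Category.assoc, hqt]
    have h1 : Epi ((cyclesMap s b ≫ K.homologyπ b) ≫ K.homologyι b) := by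
      rw [key]
      infer_instance
    have h2 : Epi (cyclesMap s b ≫ K.homologyπ b) := by
      have : cyclesMap s b ≫ K.homologyπ b =
          ((cyclesMap s b ≫ K.homologyπ b) ≫ K.homologyι b) ≫ inv (K.homologyι b) := by
        rw [Category.assoc, IsIso.hom_inv_id, Category.comp_id]
      rw [this]
      infer_instance
    have h3 : S.homologyπ b ≫ homologyMap s b = cyclesMap s b ≫ K.homologyπ b :=
      homologyπ_naturality s b
    rw [← h3] at h2
    exact epi_of_epi (S.homologyπ b) _

end Cone

end Groth.Agent.H33.PCPush
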