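import Mathlib
import Groth.Agent.H33.PCPush.Conv
import Groth.Agent.H47.TildeExact
import Groth.Agent.H44.PullbackTilde

/-!
# Closed immersions of affine schemes with pseudo-coherent structure sheaf: isomorphisms,
principal regular ideals, evaluation of polynomials
-/

set_option autoImplicit false
universe u
open CategoryTheory CategoryTheory.Limits AlgebraicGeometry Scheme.Modules TopologicalSpace

attribute [local instance] HasDerivedCategory.standard

namespace Groth.Agent.H33.PCPush

open Groth.Agent.H5.PCAlong Groth.Agent.H5.PCTriangle Groth.Agent.H5.PCSummand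
  Groth.Agent.H5.Approx Groth.Agent.H33.PC Groth.Agent.H16.ExactDer

section General

variable {X : Scheme.{u}}

lemma isFinLocFree_structureModule (X : Scheme.{u}) :
    FlatMod.IsFinLocFree (Coh.structureModule X) := by
  have e : FlatMod.freeMod X 1 ≅ Coh.structureModule X :=
    coproductUniqueIso (fun _ : Fin 1 => Coh.structureModule X)
  exact Groth.Agent.H33.Perf.isFinLocFree_of_iso' e
    (Groth.Agent.H5.PerfectFree.isFinLocFree_freeMod 1)

lemma pmAll_of_isFinLocFree {M : X.Modules} (h : FlatMod.IsFinLocFree M) : pmAll X M :=
  fun m => pc_of_isPerfect m _ (isPerfect_single M h)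

/-- the third term of a short exact sequence whose first two terms are pseudo-coherent is
pseudo-coherent -/
lemma pmAll_of_shortExact {S : ShortComplex X.Modules} (hS : S.ShortExact) (h₁ : pmAll X S.X₁)
    (h₂ : pmAll X S.X₂) : pmAll X S.X₃ :=
  fun m => (triangle m _ hS.singleTriangle_distinguished).1 (h₁ (m + 1)) (h₂ m)

end General

section Spec

variable {R S : CommRingCat.{u}} (φ : R ⟶ S)

/-- the direct image of the structure sheaf along `Spec φ` is the module associated with `S` -/
noncomputable def pushUnitIsoTilde :
    (Scheme.Modules.pushforward (Spec.map φ)).obj (Coh.structureModule (Spec S)) ≅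
      (tilde.functor R).obj ((ModuleCat.restrictScalars φ.hom).obj (ModuleCat.of S S)) := by
  let M := (Scheme.Modules.pushforward (Spec.map φ)).obj (Coh.structureModule (Spec S))
  have h1 : IsIso M.fromTildeΓ :=
    isIso_fromTildeΓ_pushforward φ (SheafOfModules.unit.{u} (Spec S).ringCatSheaf)
  have e1 : moduleSpecΓFunctor.obj M ≅
      (ModuleCat.restrictScalars φ.hom).obj (moduleSpecΓFunctor.obj
        (SheafOfModules.unit.{u} (Spec S).ringCatSheaf)) :=
    (Groth.Agent.H44.pushforwardΓIso φ).app _
  have e2 : ModuleCat.of S S ≅ moduleSpecΓFunctor.obj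
      (SheafOfModules.unit.{u} (Spec S).ringCatSheaf) :=
    tilde.toTildeΓNatIso.app (ModuleCat.of S S)
  exact (asIso M.fromTildeΓ).symm ≪≫ (tilde.functor R).mapIso
    (e1 ≪≫ (ModuleCat.restrictScalars φ.hom).mapIso e2.symm)

end Spec

section PushPC

variable {R S T : Type u} [CommRing R] [CommRing S] [CommRing T]

/-- a surjective ring map such that the direct image of the structure sheaf along the associated
closed immersion of spectra is pseudo-coherent -/
def PushPC (σ : R →+* S) : Prop :=
  Function.Surjective σ ∧ pmAll (Spec (.of R)) ((Scheme.Modules.pushforward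
    (Spec.map (CommRingCat.ofHom σ))).obj (Coh.structureModule (Spec (.of S))))

lemma isClosedImmersion_of_pushPC {σ : R →+* S} (h : PushPC σ) :
    IsClosedImmersion (Spec.map (CommRingCat.ofHom σ)) :=
  IsClosedImmersion.spec_of_surjective _ h.1

/-- ring isomorphisms -/
theorem pushPC_of_bijective (σ : R →+* S) (hσ : Function.Bijective σ) : PushPC σ := by
  refine ⟨hσ.2, ?_⟩
  let e : R ≃+* S := RingEquiv.ofBijective σ hσ
  let _ : Module R S := Module.compHom S σ
  let l : S ≃ₗ[R] R :=
    { toFun := fun x => e.symm x
      invFun := fun r => e r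
      map_add' := fun x y => map_add e.symm x y
      map_smul' := fun r x => by
        change e.symm (σ r * x) = r * e.symm x
        rw [map_mul]
        congr 1
        exact e.symm_apply_apply r
      left_inv := fun x => e.apply_symm_apply x
      right_inv := fun r => e.symm_apply_apply r }
  have e1 : (tilde.functor (CommRingCat.of R)).obj
      ((ModuleCat.restrictScalars σ).obj (ModuleCat.of S S)) ≅
      Coh.structureModule (Spec (.of R)) :=
    (tilde.functor (CommRingCat.of R)).mapIso
      (LinearEquiv.toModuleIso (X₁ := (ModuleCat.restrictScalars σ).obj (ModuleCat.of S S))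
        (X₂ := ModuleCat.of R R) l)
  exact pmAll_of_iso (pushUnitIsoTilde (CommRingCat.ofHom σ) ≪≫ e1).symm
    (pmAll_of_isFinLocFree (isFinLocFree_structureModule _))

/-- surjections with kernel generated by a non-zero-divisor -/
theorem pushPC_of_principal (σ : R →+* S) (hσ : Function.Surjective σ) (h : R)
    (hker : RingHom.ker σ = Ideal.span {h}) (hreg : ∀ r : R, h * r = 0 → r = 0) : PushPC σ := by
  refine ⟨hσ, ?_⟩
  let N := (ModuleCat.restrictScalars σ).obj (ModuleCat.of S S)
  let f : ModuleCat.of R R ⟶ ModuleCat.of R R := ModuleCat.ofHom (LinearMap.mulLeft R h)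
  let _ : Module R S := Module.compHom S σ
  let g₀ : R →ₗ[R] S :=
    { toFun := fun r => σ r
      map_add' := fun x y => map_add σ x y
      map_smul' := fun r x => by
        change σ (r * x) = σ r * σ x
        exact map_mul σ r x }
  let g : ModuleCat.of R R ⟶ N := ModuleCat.ofHom (Y := N) g₀
  have w : f ≫ g = 0 := by
    have hh : h ∈ RingHom.ker σ := by rw [hker]; exact Ideal.mem_span_singleton_self h
    refine ModuleCat.hom_ext (LinearMap.ext (fun x => ?_))
    change σ (h * x) = 0
    rw [map_mul, (RingHom.mem_ker).1 hh, zero_mul]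
  let S₀ : ShortComplex (ModuleCat.{u} R) := ShortComplex.mk f g w
  have hS₀ : S₀.ShortExact := by
    refine ShortComplex.ShortExact.mk' ?_ ?_ ?_
    · rw [ShortComplex.moduleCat_exact_iff]
      intro x hx
      have hx0 : σ x = 0 := hx
      have hx' : x ∈ RingHom.ker σ := (RingHom.mem_ker).2 hx0
      rw [hker, Ideal.mem_span_singleton'] at hx'
      obtain ⟨a, ha⟩ := hx'
      exact ⟨a, by change h * a = x; rw [mul_comm]; exact ha⟩
    · rw [ModuleCat.mono_iff_injective]
      intro a b hab
      have : h * (a - b) = 0 := by
        change h * a = h * b at hab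
        rw [mul_sub, hab, sub_self]
      exact sub_eq_zero.1 (hreg _ this)
    · rw [ModuleCat.epi_iff_surjective]
      intro y
      obtain ⟨x, hx⟩ := hσ y
      exact ⟨x, hx⟩
  have := Groth.Agent.H47.tilde_preservesFiniteLimits (CommRingCat.of R)
  have := Groth.Agent.H47.tilde_preservesFiniteColimits (CommRingCat.of R)
  have hT := hS₀.map_of_exact (tilde.functor (CommRingCat.of R))
  have h3 := pmAll_of_shortExact hT (pmAll_of_isFinLocFree (isFinLocFree_structureModule _))
    (pmAll_of_isFinLocFree (isFinLocFree_structureModule _))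
  exact pmAll_of_iso (pushUnitIsoTilde (CommRingCat.ofHom σ)).symm h3

/-- composition -/
theorem pushPC_comp {σ : R →+* S} {τ : S →+* T} (hσ : PushPC σ) (hτ : PushPC τ) :
    PushPC (τ.comp σ) := by
  refine ⟨hτ.1.comp hσ.1, ?_⟩
  have := isClosedImmersion_of_pushPC hσ
  let s := Spec.map (CommRingCat.ofHom σ)
  let t := Spec.map (CommRingCat.ofHom τ)
  have hst : Spec.map (CommRingCat.ofHom (τ.comp σ)) = t ≫ s := by
    rw [CommRingCat.ofHom_comp, Spec.map_comp]
  have e1 : (Scheme.Modules.pushforward (Spec.map (CommRingCat.ofHom (τ.comp σ)))).obj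
      (Coh.structureModule (Spec (.of T))) ≅
      (Scheme.Modules.pushforward s).obj ((Scheme.Modules.pushforward t).obj
        (Coh.structureModule (Spec (.of T)))) :=
    (Scheme.Modules.pushforwardCongr hst).app _ ≪≫
      ((Scheme.Modules.pushforwardComp t s).app _).symm
  refine pmAll_of_iso e1.symm (fun m => ?_)
  exact isPseudoCoherentD_of_iso
    (singleIso (Scheme.Modules.pushforward s) _ 0)
    (pc_pushD s hσ.2 _ m (hτ.2 m))

/-- evaluation of polynomials at a point -/
theorem pushPC_evalRingHom (g : R) : PushPC (Polynomial.evalRingHom g) := by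
  refine pushPC_of_principal _ (fun r => ⟨Polynomial.C r, by simp⟩) (Polynomial.X - Polynomial.C g)
    (Polynomial.ker_evalRingHom g) (fun r hr => ?_)
  exact (Polynomial.monic_X_sub_C g).mul_right_eq_zero_iff.1 hr

/-- evaluation of multivariate polynomials in finitely many variables at a point -/
theorem pushPC_eval (κ : Type) [Finite κ] :
    ∀ (P : Type u) [CommRing P] (g : κ → P), PushPC (MvPolynomial.eval g) := by
  refine Finite.induction_empty_option (P := fun κ => ∀ (P : Type u) [CommRing P] (g : κ → P),
    PushPC (MvPolynomial.eval g)) ?_ ?_ ?_ κ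
  · intro α β e ih P _ g
    have h1 : PushPC ((MvPolynomial.renameEquiv P e.symm : MvPolynomial β P ≃ₐ[P]
        MvPolynomial α P) : MvPolynomial β P →+* MvPolynomial α P) :=
      pushPC_of_bijective _ (MvPolynomial.renameEquiv P e.symm).bijective
    have h2 := pushPC_comp h1 (ih P (g ∘ e))
    have e2 : (MvPolynomial.eval (g ∘ e)).comp ((MvPolynomial.renameEquiv P e.symm :
        MvPolynomial β P ≃ₐ[P] MvPolynomial α P) : MvPolynomial β P →+* MvPolynomial α P) =
        MvPolynomial.eval g := by
      refine MvPolynomial.ringHom_ext (fun r => ?_) (fun i => ?_)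
      · simp
      · simp
    rwa [e2] at h2
  · intro P _ g
    have h1 : (MvPolynomial.eval g : MvPolynomial PEmpty P →+* P) =
        (MvPolynomial.isEmptyRingEquiv P PEmpty : MvPolynomial PEmpty P →+* P) := by
      refine MvPolynomial.ringHom_ext (fun r => ?_) (fun i => i.elim)
      change MvPolynomial.eval g (MvPolynomial.C r) =
        MvPolynomial.isEmptyRingEquiv P PEmpty (MvPolynomial.C r)
      rw [MvPolynomial.isEmptyRingEquiv_eq_coeff_zero, MvPolynomial.eval_C,
        MvPolynomial.coeff_zero_C]
    rw [h1]
    exact pushPC_of_bijective _ (MvPolynomial.isEmptyRingEquiv P PEmpty).bijective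
  · intro α _ ih P _ g
    have h1 : PushPC ((MvPolynomial.optionEquivLeft P α : MvPolynomial (Option α) P ≃ₐ[P]
        Polynomial (MvPolynomial α P)) : MvPolynomial (Option α) P →+*
          Polynomial (MvPolynomial α P)) :=
      pushPC_of_bijective _ (MvPolynomial.optionEquivLeft P α).bijective
    have h2 : PushPC (Polynomial.evalRingHom (MvPolynomial.C (g none) : MvPolynomial α P)) :=
      pushPC_evalRingHom _
    have h3 := pushPC_comp (pushPC_comp h1 h2) (ih P (fun a => g (some a)))
    have e2 : (MvPolynomial.eval (fun a => g (some a))).comp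
        ((Polynomial.evalRingHom (MvPolynomial.C (g none) : MvPolynomial α P)).comp
          ((MvPolynomial.optionEquivLeft P α : MvPolynomial (Option α) P ≃ₐ[P]
            Polynomial (MvPolynomial α P)) : MvPolynomial (Option α) P →+*
              Polynomial (MvPolynomial α P))) = MvPolynomial.eval g := by
      refine MvPolynomial.ringHom_ext (fun r => ?_) (fun i => ?_)
      · simp [MvPolynomial.optionEquivLeft_C]
      · cases i with
        | none => simp [MvPolynomial.optionEquivLeft_X_none]
        | some a => simp [MvPolynomial.optionEquivLeft_X_some]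
    rwa [e2] at h3

end PushPC

end Groth.Agent.H33.PCPush
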