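import Mathlib
import Groth.Agent.H33.PCPush.PushPC
import Groth.Prelude.Def_DerSch2

/-!
# Independence of the chart in the relative pseudo-coherence test
-/

set_option autoImplicit false
universe u
open CategoryTheory CategoryTheory.Limits AlgebraicGeometry Scheme.Modules TopologicalSpace

attribute [local instance] HasDerivedCategory.standard

namespace Groth.Agent.H33.PCPush

open Groth.Agent.H5.PCAlong Groth.Agent.H5.PCTriangle Groth.Agent.H5.PCSummand
  Groth.Agent.H5.Approx Groth.Agent.H33.PC Groth.Agent.H16.ExactDer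

variable {X : Scheme.{u}}

/-- the morphism from an open to an affine scheme given by a ring map to its sections -/
noncomputable def affImm (U : X.Opens) {R : Type u} [CommRing R] (φ : R →+* Γ(X, U)) :
    (U : Scheme.{u}) ⟶ Spec (CommRingCat.of R) :=
  U.toSpecΓ ≫ Spec.map (CommRingCat.ofHom φ)

/-- the pseudo-coherence test along `affImm` -/
def AffPC (m : ℤ) (K : DCoh.D X) (U : X.Opens) {R : Type u} [CommRing R] (φ : R →+* Γ(X, U)) :
    Prop :=
  ∀ G : CochainComplex X.Modules ℤ, Nonempty (DCoh.toD X G ≅ K) →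
    DCoh.IsPseudoCoherentD m (DCoh.toD (Spec (CommRingCat.of R))
      ((DerSch.pushCx (affImm U φ)).obj ((DCoh.restrictCx U).obj G)))

lemma chartPC_iff_affPC {Y : Scheme.{u}} (m : ℤ) (K : DCoh.D X) (U : X.Opens) (V : Y.Opens)
    {n : ℕ} (φ : MvPolynomial (Fin n) Γ(Y, V) →+* Γ(X, U)) :
    DerSch.ChartPC m K U V φ ↔ AffPC m K U φ := Iff.rfl

/-- the key lemma: changing the chart along a closed immersion of affine schemes with
pseudo-coherent structure sheaf -/
theorem affPC_comp_iff (m : ℤ) (K : DCoh.D X) (U : X.Opens) {R R' : Type u} [CommRing R]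
    [CommRing R'] (σ : R' →+* R) (hσ : PushPC σ) (φ : R →+* Γ(X, U)) :
    AffPC m K U (φ.comp σ) ↔ AffPC m K U φ := by
  have := isClosedImmersion_of_pushPC hσ
  let s := Spec.map (CommRingCat.ofHom σ)
  have hs : affImm U (φ.comp σ) = affImm U φ ≫ s := by
    unfold affImm
    rw [CommRingCat.ofHom_comp, Spec.map_comp, Category.assoc]
  have key : ∀ G : CochainComplex X.Modules ℤ,
      DCoh.toD (Spec (CommRingCat.of R'))
        ((DerSch.pushCx (affImm U (φ.comp σ))).obj ((DCoh.restrictCx U).obj G)) ≅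
      (pushD s).obj (DCoh.toD (Spec (CommRingCat.of R))
        ((DerSch.pushCx (affImm U φ)).obj ((DCoh.restrictCx U).obj G))) := by
    intro G
    let eF : Scheme.Modules.pushforward (affImm U (φ.comp σ)) ≅
        Scheme.Modules.pushforward (affImm U φ) ⋙ Scheme.Modules.pushforward s :=
      Scheme.Modules.pushforwardCongr hs ≪≫ (Scheme.Modules.pushforwardComp _ _).symm
    exact DerivedCategory.Q.mapIso
      ((NatIso.mapHomologicalComplex eF (ComplexShape.up ℤ)).app _ ≪≫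
        ((Functor.mapHomologicalComplexCompIso (Iso.refl _) (ComplexShape.up ℤ)).app _).symm) ≪≫
      ((Scheme.Modules.pushforward s).mapDerivedCategoryFactors.app _).symm
  constructor
  · intro h G hG
    exact pc_of_pc_pushD s hσ.2 _ m (isPseudoCoherentD_of_iso (key G) (h G hG))
  · intro h G hG
    exact isPseudoCoherentD_of_iso (key G).symm (pc_pushD s hσ.2 _ m (h G hG))

/-- independence of the chart -/
theorem chartPC_of_chartPC {S : Scheme.{u}} (f : X ⟶ S) (U : X.Opens) (V : S.Opens)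
    (h : U ≤ f ⁻¹ᵁ V) (m : ℤ) (E : DCoh.D X)
    {n : ℕ} (φ : MvPolynomial (Fin n) Γ(S, V) →+* Γ(X, U)) (hφ : DerSch.IsChart f U V h φ)
    (hE : DerSch.ChartPC m E U V φ)
    {k : ℕ} (ψ : MvPolynomial (Fin k) Γ(S, V) →+* Γ(X, U)) (hψ : DerSch.IsChart f U V h ψ) :
    DerSch.ChartPC m E U V ψ := by
  obtain ⟨hφs, hφc⟩ := hφ
  obtain ⟨hψs, hψc⟩ := hψ
  choose g hg using fun j : Fin k => hφs (ψ (MvPolynomial.X j))
  choose g' hg' using fun i : Fin n => hψs (φ (MvPolynomial.X i))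
  let σ₁ : MvPolynomial (Fin k ⊕ Fin n) Γ(S, V) →+* MvPolynomial (Fin n) Γ(S, V) :=
    (MvPolynomial.eval g).comp
      (MvPolynomial.sumRingEquiv Γ(S, V) (Fin k) (Fin n) : _ →+* _)
  have hσ₁ : PushPC σ₁ :=
    pushPC_comp (pushPC_of_bijective _ (MvPolynomial.sumRingEquiv Γ(S, V) (Fin k) (Fin n)).bijective)
      (pushPC_eval (Fin k) _ g)
  let ρ : MvPolynomial (Fin k ⊕ Fin n) Γ(S, V) →+* MvPolynomial (Fin n ⊕ Fin k) Γ(S, V) :=
    ((MvPolynomial.renameEquiv Γ(S, V) (Equiv.sumComm (Fin k) (Fin n)) :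
      MvPolynomial (Fin k ⊕ Fin n) Γ(S, V) ≃ₐ[Γ(S, V)] MvPolynomial (Fin n ⊕ Fin k) Γ(S, V)) :
      _ →+* _)
  have hρ : PushPC ρ :=
    pushPC_of_bijective _ (MvPolynomial.renameEquiv Γ(S, V) (Equiv.sumComm (Fin k) (Fin n))).bijective
  let σ₂ : MvPolynomial (Fin k ⊕ Fin n) Γ(S, V) →+* MvPolynomial (Fin k) Γ(S, V) :=
    ((MvPolynomial.eval g').comp
      (MvPolynomial.sumRingEquiv Γ(S, V) (Fin n) (Fin k) : _ →+* _)).comp ρ
  have hσ₂ : PushPC σ₂ :=
    pushPC_comp hρ (pushPC_comp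
      (pushPC_of_bijective _ (MvPolynomial.sumRingEquiv Γ(S, V) (Fin n) (Fin k)).bijective)
      (pushPC_eval (Fin n) _ g'))
  have e : φ.comp σ₁ = ψ.comp σ₂ := by
    refine MvPolynomial.ringHom_ext (fun r => ?_) (fun i => ?_)
    · have h1 : φ (MvPolynomial.C r) = ψ (MvPolynomial.C r) := by
        have a := congrArg (fun t => t r) hφc
        have b := congrArg (fun t => t r) hψc
        exact a.trans b.symm
      simpa [σ₁, σ₂, ρ] using h1
    · rcases i with j | i
      · simp [σ₁, σ₂, ρ, hg]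
      · simp [σ₁, σ₂, ρ, hg']
  rw [chartPC_iff_affPC] at hE ⊢
  rw [← affPC_comp_iff m E U σ₂ hσ₂ ψ, ← e, affPC_comp_iff m E U σ₁ hσ₁ φ]
  exact hE

end Groth.Agent.H33.PCPush
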