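import Mathlib
import Groth.Agent.H33.PCPush.ChartIndep

/-!
# Base change of closed-immersion pushforwards along open immersions; localization of charts
-/

set_option autoImplicit false
universe u
open CategoryTheory CategoryTheory.Limits AlgebraicGeometry Scheme.Modules TopologicalSpace

attribute [local instance] HasDerivedCategory.standard

namespace Groth.Agent.H33.PCPush

open Groth.Agent.H5.PCAlong Groth.Agent.H5.PCTriangle Groth.Agent.H5.PCSummand
  Groth.Agent.H5.Approx Groth.Agent.H33.PC Groth.Agent.H16.ExactDer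
  Groth.Agent.H33.SchemeDer

section BC

variable {Z Z' Y Y' : Scheme.{u}} (a : Z ⟶ Y) (a' : Z' ⟶ Y') (j : Y' ⟶ Y) (ι' : Z' ⟶ Z)
  [IsOpenImmersion j] [IsOpenImmersion ι'] (w : a' ≫ j = ι' ≫ a)

/-- `(ι')_* ⋙ a_* ≅ a'_* ⋙ j_*`. -/
noncomputable def pushSquareGen :
    pushforward ι' ⋙ pushforward a ≅ pushforward a' ⋙ pushforward j :=
  pushforwardComp _ _ ≪≫ pushforwardCongr w.symm ≪≫ (pushforwardComp _ _).symm

/-- The base change morphism `j^* (a_* M) ⟶ a'_* (ι'^* M)`. -/
noncomputable def bcAppGen (M : Z.Modules) :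
    (restrictFunctor j).obj ((pushforward a).obj M) ⟶
      (pushforward a').obj ((restrictFunctor ι').obj M) :=
  (restrictFunctor j).map ((pushforward a).map ((restrictAdjunction ι').unit.app M)) ≫
    (restrictFunctor j).map ((pushSquareGen a a' j ι' w).hom.app _) ≫
    (restrictAdjunction j).counit.app _

omit w in
lemma isIso_bcAppGen_aux (hc : ι'.opensRange = a ⁻¹ᵁ j.opensRange) (M : Z.Modules) : IsIso
    ((restrictFunctor j).map
      ((pushforward a).map ((restrictAdjunction ι').unit.app M))) := by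
  rw [Hom.isIso_iff_isIso_app]
  intro W
  rw [restrictFunctor_map_app, pushforward_map_app, restrictAdjunction_unit_app_app]
  apply isIso_presheaf_map_homOfLE
  rw [Scheme.Hom.image_preimage_eq_opensRange_inf, hc]
  refine le_inf ?_ le_rfl
  exact a.preimage_mono (j.image_le_opensRange W)

lemma isIso_bcAppGen (hc : ι'.opensRange = a ⁻¹ᵁ j.opensRange) (M : Z.Modules) :
    IsIso (bcAppGen a a' j ι' w M) := by
  have := isIso_bcAppGen_aux a j ι' hc M
  unfold bcAppGen
  infer_instance

lemma bcAppGen_naturality {M N : Z.Modules} (φ : M ⟶ N) :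
    (restrictFunctor j).map ((pushforward a).map φ) ≫ bcAppGen a a' j ι' w N =
      bcAppGen a a' j ι' w M ≫ (pushforward a').map ((restrictFunctor ι').map φ) := by
  unfold bcAppGen
  have h1 := (restrictAdjunction ι').unit.naturality φ
  have h2 := (pushSquareGen a a' j ι' w).hom.naturality ((restrictFunctor ι').map φ)
  have h3 := (restrictAdjunction j).counit.naturality
    ((pushforward a').map ((restrictFunctor ι').map φ))
  dsimp at h1 h2 h3
  have h1' := congrArg (fun t => (restrictFunctor j).map ((pushforward a).map t)) h1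
  have h2' := congrArg (fun t => (restrictFunctor j).map t) h2
  simp only [Functor.map_comp] at h1' h2'
  simp only [Category.assoc]
  rw [reassoc_of% h1', reassoc_of% h2', h3]

/-- Restriction along an open immersion commutes with pushforward, for a cartesian square. -/
noncomputable def baseChangeIsoGen (hc : ι'.opensRange = a ⁻¹ᵁ j.opensRange) :
    pushforward a ⋙ restrictFunctor j ≅ restrictFunctor ι' ⋙ pushforward a' :=
  NatIso.ofComponents (fun M => @asIso _ _ _ _ (bcAppGen a a' j ι' w M)
    (isIso_bcAppGen a a' j ι' w hc M)) (fun φ => bcAppGen_naturality a a' j ι' w φ)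

end BC

section DerivedBC

variable {Z Z' Y Y' : Scheme.{u}} (a : Z ⟶ Y) (a' : Z' ⟶ Y') (j : Y' ⟶ Y) (ι' : Z' ⟶ Z)
  [IsOpenImmersion j] [IsOpenImmersion ι'] [IsClosedImmersion a] [IsClosedImmersion a']
  (w : a' ≫ j = ι' ≫ a)

/-- derived base change for closed immersions along open immersions -/
noncomputable def pushDRestrictIsoGen (hc : ι'.opensRange = a ⁻¹ᵁ j.opensRange) :
    pushD a ⋙ DCoh.restrictD j ≅ DCoh.restrictD ι' ⋙ pushD a' :=
  Groth.Agent.H33.Glue.mapDerivedCategoryCompIso (Scheme.Modules.pushforward a)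
      (restrictFunctor j) (Scheme.Modules.pushforward a ⋙ restrictFunctor j) (Iso.refl _) ≪≫
    (Groth.Agent.H33.Glue.mapDerivedCategoryCompIso (restrictFunctor ι')
      (Scheme.Modules.pushforward a') (Scheme.Modules.pushforward a ⋙ restrictFunctor j)
      (baseChangeIsoGen a a' j ι' w hc).symm).symm

end DerivedBC

section GenOpen

variable {X : Scheme.{u}}

/-- pseudo-coherence restricts along open immersions -/
theorem pc_restrict' (m : ℤ) (K : DCoh.D X) {V : Scheme.{u}} (j : V ⟶ X) [IsOpenImmersion j]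
    (h : DCoh.IsPseudoCoherentD m K) :
    DCoh.IsPseudoCoherentD m ((DCoh.restrictD j).obj K) := by
  let M := DerivedCategory.Q.objPreimage K
  let e : DerivedCategory.Q.obj M ≅ K := DerivedCategory.Q.objObjPreimageIso K
  have eV : DerivedCategory.Q.obj ((resCx j).obj M) ≅ (DCoh.restrictD j).obj K :=
    ((restrictFunctor j).mapDerivedCategoryFactors.app M).symm ≪≫
      (DCoh.restrictD j).mapIso e
  rw [isPseudoCoherentD_iff eV m]
  intro y
  exact Groth.Agent.H5.PerfectIff.isPCAt_restrict j M y ((isPseudoCoherentD_iff e m).1 h _)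

lemma isPCAt_of_restrict' {m : ℤ} (M : CochainComplex X.Modules ℤ) {V : Scheme.{u}} (j : V ⟶ X)
    [IsOpenImmersion j] (y : V) (h : IsPCAt m ((resCx j).obj M) y) : IsPCAt m M (j y) := by
  obtain ⟨W, k, _, ⟨w, hw⟩, E, β, hE, hβ⟩ := h
  refine ⟨W, k ≫ j, inferInstance, ⟨w, ?_⟩, E, β ≫ (resCxCompIso k j M).inv, hE, ?_⟩
  · simp [hw]
  · rw [Functor.map_comp]
    exact hβ.comp_iso _

/-- pseudo-coherence is local, for general open immersions -/
theorem isPseudoCoherentD_of_locally' (m : ℤ) (K : DCoh.D X)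
    (h : ∀ x : X, ∃ (V : Scheme.{u}) (j : V ⟶ X) (_ : IsOpenImmersion j), x ∈ Set.range j ∧
      DCoh.IsPseudoCoherentD m ((DCoh.restrictD j).obj K)) :
    DCoh.IsPseudoCoherentD m K := by
  let M := DerivedCategory.Q.objPreimage K
  let e : DerivedCategory.Q.obj M ≅ K := DerivedCategory.Q.objObjPreimageIso K
  rw [isPseudoCoherentD_iff e m]
  intro x
  obtain ⟨V, j, _, ⟨y, rfl⟩, hV⟩ := h x
  have eV : DerivedCategory.Q.obj ((resCx j).obj M) ≅ (DCoh.restrictD j).obj K :=
    ((restrictFunctor j).mapDerivedCategoryFactors.app M).symm ≪≫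
      (DCoh.restrictD j).mapIso e
  exact isPCAt_of_restrict' M j y ((isPseudoCoherentD_iff eV m).1 hV y)

end GenOpen

section AffLoc

variable {X : Scheme.{u}}

lemma isClosedImmersion_affImm (U : X.Opens) (hU : IsAffineOpen U) {R : Type u} [CommRing R]
    (φ : R →+* Γ(X, U)) (hφ : Function.Surjective φ) : IsClosedImmersion (affImm U φ) := by
  have h1 : IsIso U.toSpecΓ := by
    have : IsAffine U := hU
    delta Scheme.Opens.toSpecΓ
    infer_instance
  have h2 : IsClosedImmersion (Spec.map (CommRingCat.ofHom φ)) :=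
    IsClosedImmersion.spec_of_surjective _ hφ
  exact IsClosedImmersion.comp _ _

/-- the derived form of the chart test -/
lemma affPC_iff (m : ℤ) (K : DCoh.D X) (U : X.Opens) {R : Type u} [CommRing R]
    (φ : R →+* Γ(X, U)) [IsClosedImmersion (affImm U φ)] :
    AffPC m K U φ ↔
      DCoh.IsPseudoCoherentD m ((pushD (affImm U φ)).obj ((DCoh.restrictD U.ι).obj K)) := by
  have key : ∀ G : CochainComplex X.Modules ℤ, (DCoh.toD X G ≅ K) →
      (DCoh.toD (Spec (CommRingCat.of R))
        ((DerSch.pushCx (affImm U φ)).obj ((DCoh.restrictCx U).obj G)) ≅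
      (pushD (affImm U φ)).obj ((DCoh.restrictD U.ι).obj K)) := fun G e =>
    ((Scheme.Modules.pushforward (affImm U φ)).mapDerivedCategoryFactors.app _).symm ≪≫
      (pushD (affImm U φ)).mapIso
        (((restrictFunctor U.ι).mapDerivedCategoryFactors.app G).symm ≪≫
          (DCoh.restrictD U.ι).mapIso e)
  constructor
  · intro h
    exact isPseudoCoherentD_of_iso (key _ (DerivedCategory.Q.objObjPreimageIso K))
      (h _ ⟨DerivedCategory.Q.objObjPreimageIso K⟩)
  · intro h G ⟨e⟩
    exact isPseudoCoherentD_of_iso (key G e).symm h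

variable (U : X.Opens) {R R' : Type u} [CommRing R] [CommRing R'] [Algebra R R']
  (φ : R →+* Γ(X, U)) (e : R) [IsLocalization.Away e R']
  [IsOpenImmersion (Spec.map (CommRingCat.ofHom (algebraMap R R')))]
  (φ' : R' →+* Γ(X, X.basicOpen (φ e)))
  (hcomm : φ'.comp (algebraMap R R') =
    (X.presheaf.map (homOfLE (X.basicOpen_le (φ e))).op).hom.comp φ)

include hcomm in
lemma affImm_comm :
    affImm (X.basicOpen (φ e)) φ' ≫ Spec.map (CommRingCat.ofHom (algebraMap R R')) =
      X.homOfLE (X.basicOpen_le (φ e)) ≫ affImm U φ := by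
  unfold affImm
  rw [Category.assoc, ← Spec.map_comp, ← CommRingCat.ofHom_comp, hcomm,
    CommRingCat.ofHom_comp, Spec.map_comp, ← Category.assoc, ← Category.assoc]
  congr 1
  exact Scheme.Opens.toSpecΓ_SpecMap_presheaf_map _ _ _

set_option backward.isDefEq.respectTransparency.types false in
lemma affImm_cartesian :
    (X.homOfLE (X.basicOpen_le (φ e))).opensRange =
      affImm U φ ⁻¹ᵁ (Spec.map (CommRingCat.ofHom (algebraMap R R'))).opensRange := by
  have h1 : (Spec.map (CommRingCat.ofHom (algebraMap R R'))).opensRange =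
      PrimeSpectrum.basicOpen e := by
    rw [SetLike.ext'_iff]
    exact PrimeSpectrum.localization_away_comap_range R' e
  rw [h1, Scheme.opensRange_homOfLE]
  have h2 : affImm U φ ⁻¹ᵁ PrimeSpectrum.basicOpen e =
      U.toSpecΓ ⁻¹ᵁ (Spec.map (CommRingCat.ofHom φ) ⁻¹ᵁ PrimeSpectrum.basicOpen e) := rfl
  rw [h2, SpecMap_preimage_basicOpen]
  exact (Scheme.Opens.toSpecΓ_preimage_basicOpen U (φ e)).symm

include hcomm in
/-- localization of the chart test: comparison isomorphism -/
lemma nonempty_affLocIso (K : DCoh.D X) [IsClosedImmersion (affImm U φ)]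
    [IsClosedImmersion (affImm (X.basicOpen (φ e)) φ')] :
    Nonempty ((pushD (affImm (X.basicOpen (φ e)) φ')).obj
        ((DCoh.restrictD (X.basicOpen (φ e)).ι).obj K) ≅
      (DCoh.restrictD (Spec.map (CommRingCat.ofHom (algebraMap R R')))).obj
        ((pushD (affImm U φ)).obj ((DCoh.restrictD U.ι).obj K))) := by
  obtain ⟨i1⟩ := Groth.Agent.H33.Glue.nonempty_restrictD_iso_of_fac
    (X.homOfLE (X.basicOpen_le (φ e))) U.ι (X.basicOpen (φ e)).ι (X.homOfLE_ι _)
  exact ⟨(pushD (affImm (X.basicOpen (φ e)) φ')).mapIso (i1.app K) ≪≫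
    ((pushDRestrictIsoGen (affImm U φ) (affImm (X.basicOpen (φ e)) φ')
      (Spec.map (CommRingCat.ofHom (algebraMap R R'))) (X.homOfLE (X.basicOpen_le (φ e)))
      (affImm_comm U φ e φ' hcomm) (affImm_cartesian U φ e)).app _).symm⟩

include hcomm in
theorem affPC_of_affPC_localization (m : ℤ) (K : DCoh.D X) [IsClosedImmersion (affImm U φ)]
    [IsClosedImmersion (affImm (X.basicOpen (φ e)) φ')] (h : AffPC m K U φ) :
    AffPC m K (X.basicOpen (φ e)) φ' := by
  rw [affPC_iff] at h ⊢
  obtain ⟨i⟩ := nonempty_affLocIso U φ e φ' hcomm K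
  exact isPseudoCoherentD_of_iso i.symm (pc_restrict' m _ _ h)

include hcomm in
theorem pc_restrict_of_affPC_localization (m : ℤ) (K : DCoh.D X)
    [IsClosedImmersion (affImm U φ)] [IsClosedImmersion (affImm (X.basicOpen (φ e)) φ')]
    (h : AffPC m K (X.basicOpen (φ e)) φ') :
    DCoh.IsPseudoCoherentD m
      ((DCoh.restrictD (Spec.map (CommRingCat.ofHom (algebraMap R R')))).obj
        ((pushD (affImm U φ)).obj ((DCoh.restrictD U.ι).obj K))) := by
  rw [affPC_iff] at h
  obtain ⟨i⟩ := nonempty_affLocIso U φ e φ' hcomm K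
  exact isPseudoCoherentD_of_iso i h

end AffLoc

end Groth.Agent.H33.PCPush
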