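/-
# `awayMap`: the surjection `P[X] → P_e`, `X ↦ 1/e`, and `PushPC` for it
(helper33; used for localization of charts, S7218/S7217/S7208)
-/
import Mathlib
import Groth.Agent.H33.PCPush.PushPC

set_option autoImplicit false
universe u
open CategoryTheory CategoryTheory.Limits AlgebraicGeometry

namespace Groth.Agent.H33.PCPush

open Polynomial

variable {P : Type u} [CommRing P] (e : P) (P' : Type u) [CommRing P'] [Algebra P P']
  [IsLocalization.Away e P']

lemma regular_C_mul_X_sub_one (q : P[X]) (h : (C e * X - 1) * q = 0) : q = 0 := by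
  have h1 : ∀ n : ℕ, (C e * X * q).coeff n = q.coeff n := by
    intro n
    have : C e * X * q = q := by
      have := h
      rw [sub_mul, one_mul, sub_eq_zero] at this
      exact this
    rw [this]
  ext n
  induction n with
  | zero =>
    rw [← h1 0, mul_assoc, coeff_C_mul, coeff_X_mul_zero, mul_zero, coeff_zero]
  | succ n ih =>
    rw [← h1 (n + 1), mul_assoc, coeff_C_mul, coeff_X_mul, ih, coeff_zero, mul_zero, coeff_zero]

/-- the surjection `P[X] → P_e`, `X ↦ 1/e` -/
noncomputable def awayMap : P[X] →+* P' :=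
  have := IsLocalization.adjoin_inv e
  ((IsLocalization.algEquiv (Submonoid.powers e) (AdjoinRoot (C e * X - 1)) P' :
    AdjoinRoot (C e * X - 1) ≃ₐ[P] P') : AdjoinRoot (C e * X - 1) →+* P').comp
    (AdjoinRoot.mk (C e * X - 1))

lemma awayMap_C (p : P) : awayMap e P' (C p) = algebraMap P P' p := by
  have := IsLocalization.adjoin_inv e
  change (IsLocalization.algEquiv (Submonoid.powers e) (AdjoinRoot (C e * X - 1)) P')
    (AdjoinRoot.mk (C e * X - 1) (C p)) = _
  rw [AdjoinRoot.mk_C]
  exact AlgEquiv.commutes _ p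

lemma awayMap_mul_X : algebraMap P P' e * awayMap e P' X = 1 := by
  rw [← awayMap_C e P' e, ← map_mul]
  have h0 : awayMap e P' (C e * X - 1) = 0 := by
    have := IsLocalization.adjoin_inv e
    change (IsLocalization.algEquiv (Submonoid.powers e) (AdjoinRoot (C e * X - 1)) P')
      (AdjoinRoot.mk (C e * X - 1) (C e * X - 1)) = 0
    rw [AdjoinRoot.mk_self, map_zero]
  rw [map_sub, map_one, sub_eq_zero] at h0
  exact h0

theorem pushPC_awayMap : PushPC (awayMap e P') := by
  have := IsLocalization.adjoin_inv e
  refine pushPC_comp (pushPC_of_principal _ AdjoinRoot.mk_surjective (C e * X - 1) ?_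
    (regular_C_mul_X_sub_one e)) (pushPC_of_bijective _ (AlgEquiv.bijective _))
  exact Ideal.mk_ker

end Groth.Agent.H33.PCPush
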