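/-
# Localization of charts for relative pseudo-coherence (helper33)
Lemma A (`exists_chart_basicOpen`), Lemma B (`exists_chart_enlarge_base`),
Lemma C (`exists_chart_shrink_base`), Lemma D (`chartPC_of_cover`), and the predicate `HasChartPC`.
-/
import Mathlib
import Groth.Agent.H33.PCPush.AffLoc
import Groth.Agent.H33.PCPush.AwayMap

set_option autoImplicit false
universe u
open CategoryTheory CategoryTheory.Limits AlgebraicGeometry Scheme.Modules TopologicalSpace

attribute [local instance] HasDerivedCategory.standard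

namespace Groth.Agent.H33.PCPush

open Groth.Agent.H5.PCAlong Groth.Agent.H5.PCTriangle Groth.Agent.H5.PCSummand
  Groth.Agent.H5.Approx Groth.Agent.H33.PC Groth.Agent.H16.ExactDer
  Groth.Agent.H33.SchemeDer

section Alg

lemma awayMap_surjective {P : Type u} [CommRing P] (e : P) (P' : Type u) [CommRing P']
    [Algebra P P'] [IsLocalization.Away e P'] : Function.Surjective (awayMap e P') :=
  (pushPC_awayMap e P').1

theorem exists_pushPC_away {A : Type u} [CommRing A] (n : ℕ) (e : MvPolynomial (Fin n) A)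
    (P' : Type u) [CommRing P'] [Algebra (MvPolynomial (Fin n) A) P'] [IsLocalization.Away e P'] :
    ∃ σ : MvPolynomial (Fin (n + 1)) A →+* P', PushPC σ ∧
      ∀ a : A, σ (MvPolynomial.C a) =
        algebraMap (MvPolynomial (Fin n) A) P' (MvPolynomial.C a) := by
  refine ⟨(awayMap e P').comp (MvPolynomial.finSuccEquiv A n : _ →+* _),
    pushPC_comp (pushPC_of_bijective _ (MvPolynomial.finSuccEquiv A n).bijective)
      (pushPC_awayMap e P'), fun a => ?_⟩
  simp [MvPolynomial.finSuccEquiv_apply, awayMap_C]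

end Alg

section Charts

variable {X S : Scheme.{u}} (f : X ⟶ S)

/-- Lemma A: localizing a chart at (the image of) a polynomial. -/
theorem exists_chart_basicOpen {U : X.Opens} (hU : IsAffineOpen U) (V : S.Opens)
    (h : U ≤ f ⁻¹ᵁ V) {n : ℕ} (φ : MvPolynomial (Fin n) Γ(S, V) →+* Γ(X, U))
    (hφ : DerSch.IsChart f U V h φ) [IsClosedImmersion (affImm U φ)]
    (g' : MvPolynomial (Fin n) Γ(S, V)) :
    ∃ (ψ : MvPolynomial (Fin (n + 1)) Γ(S, V) →+* Γ(X, X.basicOpen (φ g'))),
      DerSch.IsChart f (X.basicOpen (φ g')) V ((X.basicOpen_le _).trans h) ψ ∧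
      ∀ (m : ℤ) (E : DCoh.D X),
        (DerSch.ChartPC m E U V φ → DerSch.ChartPC m E (X.basicOpen (φ g')) V ψ) ∧
        (DerSch.ChartPC m E (X.basicOpen (φ g')) V ψ →
          DCoh.IsPseudoCoherentD m
            ((DCoh.restrictD (Spec.map (CommRingCat.ofHom
              (algebraMap (MvPolynomial (Fin n) Γ(S, V)) (Localization.Away g'))))).obj
              ((pushD (affImm U φ)).obj ((DCoh.restrictD U.ι).obj E)))) := by
  have locB : IsLocalization.Away (φ g') Γ(X, X.basicOpen (φ g')) :=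
    hU.isLocalization_basicOpen (φ g')
  let φ₁ : Localization.Away g' →+* Γ(X, X.basicOpen (φ g')) :=
    IsLocalization.Away.map (Localization.Away g') Γ(X, X.basicOpen (φ g')) φ g'
  have hcomm : φ₁.comp (algebraMap (MvPolynomial (Fin n) Γ(S, V)) (Localization.Away g')) =
      (X.presheaf.map (homOfLE (X.basicOpen_le (φ g'))).op).hom.comp φ :=
    IsLocalization.map_comp _
  have hφ₁ : Function.Surjective φ₁ := by
    rw [IsLocalization.Away.map_surjective_iff]
    intro a
    obtain ⟨b, rfl⟩ := hφ.1 a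
    exact ⟨b, 0, by simp⟩
  obtain ⟨σ, hσ, hσC⟩ := exists_pushPC_away n g' (Localization.Away g')
  have i2 : IsClosedImmersion (affImm (X.basicOpen (φ g')) φ₁) :=
    isClosedImmersion_affImm _ (hU.basicOpen _) φ₁ hφ₁
  refine ⟨φ₁.comp σ, ⟨hφ₁.comp hσ.1, ?_⟩, fun m E => ⟨fun hE => ?_, fun hE => ?_⟩⟩
  · ext a
    have h1 := congrArg (fun t => t (MvPolynomial.C a)) hcomm
    have h2 := congrArg (fun t => t a) hφ.2
    simp only [RingHom.comp_apply] at h1 h2 ⊢
    rw [hσC, h1, h2]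
    rw [← CommRingCat.comp_apply, Scheme.Hom.appLE_map]
  · rw [chartPC_iff_affPC] at hE ⊢
    rw [affPC_comp_iff m E _ σ hσ φ₁]
    exact affPC_of_affPC_localization U φ g' φ₁ hcomm m E hE
  · rw [chartPC_iff_affPC, affPC_comp_iff m E _ σ hσ φ₁] at hE
    exact pc_restrict_of_affPC_localization U φ g' φ₁ hcomm m E hE


attribute [local instance] MvPolynomial.algebraMvPolynomial

lemma isLocalization_away_mvPolynomial {A A' : Type u} [CommRing A] [CommRing A'] [Algebra A A']
    (r : A) [IsLocalization.Away r A'] (n : ℕ) :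
    IsLocalization.Away (MvPolynomial.C r : MvPolynomial (Fin n) A) (MvPolynomial (Fin n) A') := by
  have := MvPolynomial.isLocalization (σ := Fin n) (Submonoid.powers r) A'
  rwa [Submonoid.map_powers] at this

/-- Lemma B: enlarging the base from a basic open to the affine open. -/
theorem exists_chart_enlarge_base {V : S.Opens} (hV : IsAffineOpen V) (r : Γ(S, V)) (U : X.Opens)
    (hU' : U ≤ f ⁻¹ᵁ S.basicOpen r) {n : ℕ}
    (φ : MvPolynomial (Fin n) Γ(S, S.basicOpen r) →+* Γ(X, U))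
    (hφ : DerSch.IsChart f U (S.basicOpen r) hU' φ) :
    ∃ (ψ : MvPolynomial (Fin (n + 1)) Γ(S, V) →+* Γ(X, U)),
      DerSch.IsChart f U V (hU'.trans (f.preimage_mono (S.basicOpen_le r))) ψ ∧
      ∀ (m : ℤ) (E : DCoh.D X),
        DerSch.ChartPC m E U (S.basicOpen r) φ ↔ DerSch.ChartPC m E U V ψ := by
  have locA : IsLocalization.Away r Γ(S, S.basicOpen r) := hV.isLocalization_basicOpen r
  have locP := isLocalization_away_mvPolynomial (A' := Γ(S, S.basicOpen r)) r n
  obtain ⟨σ, hσ, hσC⟩ := exists_pushPC_away n (MvPolynomial.C r)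
    (MvPolynomial (Fin n) Γ(S, S.basicOpen r))
  refine ⟨φ.comp σ, ⟨hφ.1.comp hσ.1, ?_⟩, fun m E => ?_⟩
  · ext a
    have h2 := congrArg (fun t => t (algebraMap Γ(S, V) Γ(S, S.basicOpen r) a)) hφ.2
    simp only [RingHom.comp_apply] at h2 ⊢
    rw [hσC, MvPolynomial.algebraMap_def, MvPolynomial.map_C, h2]
    rw [RingHom.algebraMap_toAlgebra, ← CommRingCat.comp_apply, Scheme.Hom.map_appLE]
  · rw [chartPC_iff_affPC, chartPC_iff_affPC]
    exact (affPC_comp_iff m E U σ hσ φ).symm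


/-- Lemma C: shrinking the base to a basic open. -/
theorem exists_chart_shrink_base {U : X.Opens} (hU : IsAffineOpen U) {V : S.Opens}
    (hV : IsAffineOpen V) (h : U ≤ f ⁻¹ᵁ V) {n : ℕ}
    (φ : MvPolynomial (Fin n) Γ(S, V) →+* Γ(X, U))
    (hφ : DerSch.IsChart f U V h φ) (r : Γ(S, V)) :
    ∃ (h' : X.basicOpen (φ (MvPolynomial.C r)) ≤ f ⁻¹ᵁ S.basicOpen r)
      (φ' : MvPolynomial (Fin n) Γ(S, S.basicOpen r) →+*
        Γ(X, X.basicOpen (φ (MvPolynomial.C r)))),
      DerSch.IsChart f (X.basicOpen (φ (MvPolynomial.C r))) (S.basicOpen r) h' φ' ∧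
      ∀ (m : ℤ) (E : DCoh.D X), DerSch.ChartPC m E U V φ →
        DerSch.ChartPC m E (X.basicOpen (φ (MvPolynomial.C r))) (S.basicOpen r) φ' := by
  have hφr : φ (MvPolynomial.C r) = f.appLE V U h r := congrArg (fun t => t r) hφ.2
  have h' : X.basicOpen (φ (MvPolynomial.C r)) ≤ f ⁻¹ᵁ S.basicOpen r := by
    rw [hφr, Scheme.basicOpen_appLE]
    exact inf_le_right
  have locA : IsLocalization.Away r Γ(S, S.basicOpen r) := hV.isLocalization_basicOpen r
  have locP := isLocalization_away_mvPolynomial (A' := Γ(S, S.basicOpen r)) r n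
  have locB : IsLocalization.Away (φ (MvPolynomial.C r))
      Γ(X, X.basicOpen (φ (MvPolynomial.C r))) := hU.isLocalization_basicOpen _
  let φ' : MvPolynomial (Fin n) Γ(S, S.basicOpen r) →+*
      Γ(X, X.basicOpen (φ (MvPolynomial.C r))) :=
    IsLocalization.Away.map _ _ φ (MvPolynomial.C r)
  have hcomm : φ'.comp (algebraMap (MvPolynomial (Fin n) Γ(S, V))
        (MvPolynomial (Fin n) Γ(S, S.basicOpen r))) =
      (X.presheaf.map (homOfLE (X.basicOpen_le (φ (MvPolynomial.C r)))).op).hom.comp φ :=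
    IsLocalization.map_comp _
  have hφ' : Function.Surjective φ' := by
    rw [IsLocalization.Away.map_surjective_iff]
    intro a
    obtain ⟨b, rfl⟩ := hφ.1 a
    exact ⟨b, 0, by simp⟩
  have io : IsOpenImmersion (Spec.map (CommRingCat.ofHom (algebraMap
      (MvPolynomial (Fin n) Γ(S, V)) (MvPolynomial (Fin n) Γ(S, S.basicOpen r))))) :=
    IsOpenImmersion.of_isLocalization (MvPolynomial.C r)
  have i1 : IsClosedImmersion (affImm U φ) := isClosedImmersion_affImm U hU φ hφ.1
  have i2 : IsClosedImmersion (affImm (X.basicOpen (φ (MvPolynomial.C r))) φ') :=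
    isClosedImmersion_affImm _ (hU.basicOpen _) φ' hφ'
  refine ⟨h', φ', ⟨hφ', ?_⟩, fun m E hE => ?_⟩
  · apply IsLocalization.ringHom_ext (Submonoid.powers r)
    ext a
    have h1 := congrArg (fun t => t (MvPolynomial.C a)) hcomm
    have h2 := congrArg (fun t => t a) hφ.2
    simp only [RingHom.comp_apply, MvPolynomial.algebraMap_def, MvPolynomial.map_C] at h1 h2 ⊢
    rw [h1, h2, RingHom.algebraMap_toAlgebra, ← CommRingCat.comp_apply, ← CommRingCat.comp_apply,
      Scheme.Hom.appLE_map, Scheme.Hom.map_appLE]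
  · rw [chartPC_iff_affPC] at hE ⊢
    exact affPC_of_affPC_localization U φ (MvPolynomial.C r) φ' hcomm m E hE


/-- there is a chart over `(U, V)` passing the pseudo-coherence test -/
def HasChartPC (m : ℤ) (E : DCoh.D X) (U : X.Opens) (V : S.Opens) : Prop :=
  ∃ (h : U ≤ f ⁻¹ᵁ V) (n : ℕ) (φ : MvPolynomial (Fin n) Γ(S, V) →+* Γ(X, U)),
    DerSch.IsChart f U V h φ ∧ DerSch.ChartPC m E U V φ

/-- Lemma D: gluing along a standard cover of the source. -/
theorem chartPC_of_cover {U : X.Opens} (hU : IsAffineOpen U) (V : S.Opens) (h : U ≤ f ⁻¹ᵁ V)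
    {n : ℕ} (φ : MvPolynomial (Fin n) Γ(S, V) →+* Γ(X, U)) (hφ : DerSch.IsChart f U V h φ)
    (m : ℤ) (E : DCoh.D X) (s : Set Γ(X, U)) (hs : Ideal.span s = ⊤)
    (H : ∀ g ∈ s, HasChartPC f m E (X.basicOpen g) V) :
    DerSch.ChartPC m E U V φ := by
  have i1 : IsClosedImmersion (affImm U φ) := isClosedImmersion_affImm U hU φ hφ.1
  rw [chartPC_iff_affPC, affPC_iff]
  apply isPseudoCoherentD_of_locally'
  intro x
  by_cases hx : x ∈ Set.range (affImm U φ)
  · obtain ⟨y, rfl⟩ := hx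
    have hy : y.1 ∈ ⨆ g : s, X.basicOpen g.1 := (hU.self_le_iSup_basicOpen_iff.2 hs) y.2
    obtain ⟨⟨g, hg⟩, hyg⟩ := Opens.mem_iSup.1 hy
    obtain ⟨g', rfl⟩ := hφ.1 g
    obtain ⟨ψ, hψ, hψ2⟩ := exists_chart_basicOpen f hU V h φ hφ g'
    obtain ⟨h₀, k, ψ₀, hψ₀, hψ₀pc⟩ := H _ hg
    have hpc := chartPC_of_chartPC f _ V _ m E ψ₀ hψ₀ hψ₀pc ψ hψ
    refine ⟨_, Spec.map (CommRingCat.ofHom (algebraMap _ (Localization.Away g'))), inferInstance,
      ?_, (hψ2 m E).2 hpc⟩
    have hc := affImm_cartesian U φ g' (R' := Localization.Away g')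
    have : y ∈ (X.homOfLE (X.basicOpen_le (φ g'))).opensRange := by
      rw [Scheme.opensRange_homOfLE]
      exact hyg
    rw [hc] at this
    exact this
  · let W : (Spec (CommRingCat.of (MvPolynomial (Fin n) Γ(S, V)))).Opens :=
      ⟨(Set.range (affImm U φ))ᶜ, (affImm U φ).isClosedEmbedding.isClosed_range.isOpen_compl⟩
    refine ⟨W, W.ι, inferInstance, ?_,
      pc_restrict_push_of_disjoint (affImm U φ) _ W disjoint_compl_left m⟩
    rw [Scheme.Opens.range_ι]
    exact hx


variable {f} in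
lemma HasChartPC.exists_chart {m : ℤ} {E : DCoh.D X} {U : X.Opens} {V : S.Opens}
    (H : HasChartPC f m E U V) (h : U ≤ f ⁻¹ᵁ V) :
    ∃ (n : ℕ) (φ : MvPolynomial (Fin n) Γ(S, V) →+* Γ(X, U)),
      DerSch.IsChart f U V h φ ∧ DerSch.ChartPC m E U V φ := by
  obtain ⟨_, n, φ, h1, h2⟩ := H
  exact ⟨n, φ, h1, h2⟩

/-- (L-a): the test passes to standard opens of the source. -/
theorem hasChartPC_basicOpen {U : X.Opens} (hU : IsAffineOpen U) (V : S.Opens)
    (m : ℤ) (E : DCoh.D X) (H : HasChartPC f m E U V) (g : Γ(X, U)) :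
    HasChartPC f m E (X.basicOpen g) V := by
  obtain ⟨h, n, φ, hφ, hE⟩ := H
  obtain ⟨g', rfl⟩ := hφ.1 g
  have : IsClosedImmersion (affImm U φ) := isClosedImmersion_affImm U hU φ hφ.1
  obtain ⟨ψ, hψ, hψ2⟩ := exists_chart_basicOpen f hU V h φ hφ g'
  exact ⟨_, _, ψ, hψ, (hψ2 m E).1 hE⟩

/-- (L-c): the base may be enlarged from a standard open to the affine open. -/
theorem hasChartPC_enlarge_base {V : S.Opens} (hV : IsAffineOpen V) (r : Γ(S, V)) (U : X.Opens)
    (m : ℤ) (E : DCoh.D X) (H : HasChartPC f m E U (S.basicOpen r)) :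
    HasChartPC f m E U V := by
  obtain ⟨h, n, φ, hφ, hE⟩ := H
  obtain ⟨ψ, hψ, hψ2⟩ := exists_chart_enlarge_base f hV r U h φ hφ
  exact ⟨_, _, ψ, hψ, (hψ2 m E).1 hE⟩

/-- existence of charts for finite type ring maps -/
lemma exists_isChart_of_finiteType (U : X.Opens) (V : S.Opens) (h : U ≤ f ⁻¹ᵁ V)
    (hft : (f.appLE V U h).hom.FiniteType) :
    ∃ (n : ℕ) (φ : MvPolynomial (Fin n) Γ(S, V) →+* Γ(X, U)), DerSch.IsChart f U V h φ := by
  algebraize [(f.appLE V U h).hom]
  obtain ⟨n, φ, hφ⟩ := Algebra.FiniteType.iff_quotient_mvPolynomial''.1 hft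
  refine ⟨n, φ, hφ, ?_⟩
  ext a
  simp only [RingHom.comp_apply]
  exact φ.commutes a

end Charts

end Groth.Agent.H33.PCPush
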