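/-
# Relative pseudo-coherence: the chart test holds on all pairs of affine opens (helper33)
-/
import Mathlib
import Groth.Agent.H33.PCPush.ChartLoc

set_option autoImplicit false
universe u
open CategoryTheory CategoryTheory.Limits AlgebraicGeometry Scheme.Modules TopologicalSpace

attribute [local instance] HasDerivedCategory.standard

namespace Groth.Agent.H33.PCPush

variable {X S : Scheme.{u}} (f : X ⟶ S)

/-- relative pseudo-coherence (chart form on some covers) gives the chart test on every pair of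
affine opens -/
theorem hasChartPC_of_isPseudoCoherentRel (m : ℤ) (E : DCoh.D X)
    (H : DerSch.IsPseudoCoherentRel f m E) {U : X.Opens} (hU : IsAffineOpen U) {V : S.Opens}
    (hV : IsAffineOpen V) (h : U ≤ f ⁻¹ᵁ V) : HasChartPC f m E U V := by
  obtain ⟨hlft, 𝒱, h𝒱, H⟩ := H
  have hft : (f.appLE V U h).hom.FiniteType := hlft.finiteType_appLE hV hU h
  obtain ⟨n, φ, hφ⟩ := exists_isChart_of_finiteType f U V h hft
  refine ⟨h, n, φ, hφ, chartPC_of_cover f hU V h φ hφ m E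
    {g | HasChartPC f m E (X.basicOpen g) V} ?_ (fun g hg => hg)⟩
  rw [← hU.self_le_iSup_basicOpen_iff]
  intro x hx
  have hfx : f x ∈ (⊤ : S.Opens) := trivial
  rw [← h𝒱] at hfx
  obtain ⟨V', hV'mem, hfxV'⟩ : ∃ V' ∈ 𝒱, f x ∈ V'.1 := by
    simpa [Opens.mem_iSup] using hfx
  obtain ⟨𝒰, h𝒰, HU⟩ := H V' hV'mem
  have hx' : x ∈ f ⁻¹ᵁ V'.1 := hfxV'
  rw [← h𝒰] at hx'
  obtain ⟨U', hU'mem, hxU'⟩ : ∃ U' ∈ 𝒰, x ∈ U'.1 := by
    simpa [Opens.mem_iSup] using hx'
  have hU'V' : U'.1 ≤ f ⁻¹ᵁ V'.1 := by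
    rw [← h𝒰]
    exact le_iSup₂ (f := fun (U : X.affineOpens) (_ : U ∈ 𝒰) => U.1) U' hU'mem
  obtain ⟨n', φ', hφ', hE'⟩ := HU U' hU'mem hU'V'
  -- a common standard open of the bases
  obtain ⟨r, r', hrr', hfxr⟩ := exists_basicOpen_le_affine_inter hV V'.2 (f x) ⟨h hx, hfxV'⟩
  -- shrink the base of the given chart
  obtain ⟨h'', φ'', hφ'', hE''⟩ := exists_chart_shrink_base f U'.2 V'.2 hU'V' φ' hφ' r'
  have hU'' : IsAffineOpen (X.basicOpen (φ' (MvPolynomial.C r'))) := U'.2.basicOpen _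
  have hxU'' : x ∈ X.basicOpen (φ' (MvPolynomial.C r')) := by
    have : φ' (MvPolynomial.C r') = f.appLE V'.1 U'.1 hU'V' r' := congrArg (fun t => t r') hφ'.2
    rw [this, Scheme.basicOpen_appLE]
    exact ⟨hxU', hrr' ▸ hfxr⟩
  -- a common standard open of the sources
  obtain ⟨g, g'', hgg'', hxg⟩ := exists_basicOpen_le_affine_inter hU hU'' x ⟨hx, hxU''⟩
  have H4 : HasChartPC f m E (X.basicOpen g'') (S.basicOpen r') :=
    hasChartPC_basicOpen f hU'' _ m E ⟨h'', n', φ'', hφ'', hE'' m E hE'⟩ g''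
  rw [← hgg'', ← hrr'] at H4
  have H5 := hasChartPC_enlarge_base f hV r (X.basicOpen g) m E H4
  exact Opens.mem_iSup.2 ⟨⟨g, H5⟩, hxg⟩

/-- the chart test on all pairs of affine opens gives relative pseudo-coherence -/
theorem isPseudoCoherentRel_of_forall [LocallyOfFiniteType f] (m : ℤ) (E : DCoh.D X)
    (H : ∀ (U : X.affineOpens) (V : S.affineOpens) (h : (U : X.Opens) ≤ f ⁻¹ᵁ (V : S.Opens)),
      ∃ (n : ℕ) (φ : MvPolynomial (Fin n) Γ(S, (V : S.Opens)) →+* Γ(X, (U : X.Opens))),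
        DerSch.IsChart f (U : X.Opens) (V : S.Opens) h φ ∧
          DerSch.ChartPC m E (U : X.Opens) (V : S.Opens) φ) :
    DerSch.IsPseudoCoherentRel f m E := by
  refine ⟨inferInstance, Set.univ, ?_, fun V _ =>
    ⟨{U | (U : X.Opens) ≤ f ⁻¹ᵁ (V : S.Opens)}, ?_, fun U _ h => H U V h⟩⟩
  · simp only [Set.mem_univ, iSup_pos]
    exact iSup_affineOpens_eq_top S
  · apply le_antisymm
    · exact iSup₂_le fun U hU => hU
    · intro x hx
      obtain ⟨U, hU, hxU, hUle⟩ := Opens.isBasis_iff_nbhd.1 X.isBasis_affineOpens hx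
      exact Opens.mem_iSup.2 ⟨⟨U, hU⟩, Opens.mem_iSup.2 ⟨hUle, hxU⟩⟩

end Groth.Agent.H33.PCPush
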