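/-
# The chart functor; relative pseudo-coherence as a test on all charts; triangles (helper33)
-/
import Mathlib
import Groth.Agent.H33.PCPush.ChartAll

set_option autoImplicit false
universe u
open CategoryTheory CategoryTheory.Limits AlgebraicGeometry Scheme.Modules TopologicalSpace

attribute [local instance] HasDerivedCategory.standard

namespace Groth.Agent.H33.PCPush

open Groth.Agent.H5.PCAlong Groth.Agent.H5.PCTriangle Groth.Agent.H5.PCSummand
  Groth.Agent.H5.Approx Groth.Agent.H33.PC Groth.Agent.H16.ExactDer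
  Groth.Agent.H33.SchemeDer

variable {X S : Scheme.{u}} (f : X ⟶ S)

/-- the chart functor `D(O_X) ⥤ D(O_{Spec R})`: restrict to `U`, push forward along the closed
immersion `affImm U φ` -/
noncomputable abbrev chartD (U : X.Opens) {R : Type u} [CommRing R] (φ : R →+* Γ(X, U))
    [IsClosedImmersion (affImm U φ)] : DCoh.D X ⥤ DCoh.D (Spec (CommRingCat.of R)) :=
  DCoh.restrictD U.ι ⋙ pushD (affImm U φ)

lemma chartPC_iff_chartD {m : ℤ} {E : DCoh.D X} {U : X.Opens} {V : S.Opens} {n : ℕ}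
    (φ : MvPolynomial (Fin n) Γ(S, V) →+* Γ(X, U)) [IsClosedImmersion (affImm U φ)] :
    DerSch.ChartPC m E U V φ ↔ DCoh.IsPseudoCoherentD m ((chartD U φ).obj E) := by
  rw [chartPC_iff_affPC, affPC_iff]
  exact Iff.rfl

/-- relative pseudo-coherence as a test on ALL charts of ALL pairs of affine opens -/
theorem isPseudoCoherentRel_iff_forall_chart [LocallyOfFiniteType f] (m : ℤ) (E : DCoh.D X) :
    DerSch.IsPseudoCoherentRel f m E ↔
      ∀ (U : X.Opens) (_ : IsAffineOpen U) (V : S.Opens) (_ : IsAffineOpen V) (h : U ≤ f ⁻¹ᵁ V)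
        (n : ℕ) (φ : MvPolynomial (Fin n) Γ(S, V) →+* Γ(X, U)) (_ : DerSch.IsChart f U V h φ),
        DerSch.ChartPC m E U V φ := by
  constructor
  · intro H U hU V hV h n φ hφ
    obtain ⟨_, n', φ', hφ', hE⟩ := hasChartPC_of_isPseudoCoherentRel f m E H hU hV h
    exact chartPC_of_chartPC f U V h m E φ' hφ' hE φ hφ
  · intro H
    refine isPseudoCoherentRel_of_forall f m E (fun U V h => ?_)
    obtain ⟨n, φ, hφ⟩ := exists_isChart_of_finiteType f U.1 V.1 h
      (LocallyOfFiniteType.finiteType_appLE f V.2 U.2 h)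
    exact ⟨n, φ, hφ, H U.1 U.2 V.1 V.2 h n φ hφ⟩

/-- triangles -/
theorem isPseudoCoherentRel_triangle [LocallyOfFiniteType f] (n : ℤ)
    (T : Pretriangulated.Triangle (DCoh.D X)) (hT : T ∈ distTriang (DCoh.D X)) :
    (DerSch.IsPseudoCoherentRel f (n + 1) T.obj₁ → DerSch.IsPseudoCoherentRel f n T.obj₂ →
        DerSch.IsPseudoCoherentRel f n T.obj₃) ∧
      (DerSch.IsPseudoCoherentRel f n T.obj₁ → DerSch.IsPseudoCoherentRel f n T.obj₃ →
        DerSch.IsPseudoCoherentRel f n T.obj₂) ∧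
      (DerSch.IsPseudoCoherentRel f (n + 1) T.obj₂ → DerSch.IsPseudoCoherentRel f n T.obj₃ →
        DerSch.IsPseudoCoherentRel f (n + 1) T.obj₁) := by
  simp only [isPseudoCoherentRel_iff_forall_chart]
  refine ⟨fun h1 h2 U hU V hV h k φ hφ => ?_, fun h1 h2 U hU V hV h k φ hφ => ?_,
    fun h1 h2 U hU V hV h k φ hφ => ?_⟩
  all_goals
    have := isClosedImmersion_affImm U hU φ hφ.1
    have hT' := (chartD U φ).map_distinguished T hT
    have tri := Groth.Agent.H5.PCTriangle.triangle n _ hT'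
    have a1 := h1 U hU V hV h k φ hφ
    have a2 := h2 U hU V hV h k φ hφ
    rw [chartPC_iff_chartD] at a1 a2 ⊢
  · exact tri.1 a1 a2
  · exact tri.2.1 a1 a2
  · exact tri.2.2 a1 a2

end Groth.Agent.H33.PCPush
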