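/-
# Absolute versus relative pseudo-coherence for a pseudo-coherent morphism (helper33)
-/
import Mathlib
import Groth.Agent.H33.PCPush.ChartFun

set_option autoImplicit false
universe u
open CategoryTheory CategoryTheory.Limits AlgebraicGeometry Scheme.Modules TopologicalSpace

attribute [local instance] HasDerivedCategory.standard

namespace Groth.Agent.H33.PCPush

open Groth.Agent.H5.PCAlong Groth.Agent.H5.PCTriangle Groth.Agent.H5.PCSummand
  Groth.Agent.H5.Approx Groth.Agent.H33.PC Groth.Agent.H16.ExactDer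
  Groth.Agent.H33.SchemeDer

variable {Y Z : Scheme.{u}} (g : Y ⟶ Z)

/-- the chart functor on a module in degree zero -/
noncomputable def chartDSingleIso (U : Y.Opens) {R : Type u} [CommRing R] (φ : R →+* Γ(Y, U))
    [IsClosedImmersion (affImm U φ)] (M : Y.Modules) :
    (chartD U φ).obj (DCoh.inD Y M) ≅
      DCoh.inD _ ((Scheme.Modules.pushforward (affImm U φ)).obj ((restrictFunctor U.ι).obj M)) :=
  (pushD (affImm U φ)).mapIso (singleIso (restrictFunctor U.ι) M 0) ≪≫
    singleIso (Scheme.Modules.pushforward (affImm U φ)) _ 0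

/-- for a pseudo-coherent morphism, every chart has pseudo-coherent structure sheaf -/
theorem pmAll_push_unit_of_isNPseudoCoherent [LocallyOfFiniteType g]
    (hg : ∀ n : ℤ, DerSch.IsNPseudoCoherent g n) {U : Y.Opens} (hU : IsAffineOpen U)
    {V : Z.Opens} (hV : IsAffineOpen V) (h : U ≤ g ⁻¹ᵁ V) {n : ℕ}
    (φ : MvPolynomial (Fin n) Γ(Z, V) →+* Γ(Y, U)) (hφ : DerSch.IsChart g U V h φ) :
    pmAll _ ((Scheme.Modules.pushforward (affImm U φ)).obj (Coh.structureModule U)) := by
  intro m
  have := isClosedImmersion_affImm U hU φ hφ.1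
  have h1 := (isPseudoCoherentRel_iff_forall_chart g m _).1 (hg m) U hU V hV h n φ hφ
  rw [chartPC_iff_chartD] at h1
  refine isPseudoCoherentD_of_iso ?_ h1
  exact (chartD U φ).mapIso ((DerivedCategory.singleFunctorIsoCompQ Y.Modules 0).app _).symm ≪≫
    chartDSingleIso U φ _ ≪≫
    (DerivedCategory.singleFunctor _ 0).mapIso
      ((Scheme.Modules.pushforward (affImm U φ)).mapIso (Scheme.Modules.restrictUnitIso U.ι))

/-- absolute versus relative pseudo-coherence for a pseudo-coherent morphism -/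
theorem isPseudoCoherentD_iff_isPseudoCoherentRel [LocallyOfFiniteType g]
    (hg : ∀ n : ℤ, DerSch.IsNPseudoCoherent g n) (r : ℤ) (E : DCoh.D Y) :
    DCoh.IsPseudoCoherentD r E ↔ DerSch.IsPseudoCoherentRel g r E := by
  rw [isPseudoCoherentRel_iff_forall_chart]
  constructor
  · intro hE U hU V hV h n φ hφ
    have := isClosedImmersion_affImm U hU φ hφ.1
    rw [chartPC_iff_chartD]
    exact pc_pushD (affImm U φ) (pmAll_push_unit_of_isNPseudoCoherent g hg hU hV h φ hφ) _ r
      (pc_restrict r E U hE)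
  · intro H
    refine isPseudoCoherentD_of_locally' r E (fun y => ?_)
    obtain ⟨(V : Z.Opens), hV, hyV, -⟩ := Opens.isBasis_iff_nbhd.1 Z.isBasis_affineOpens
      (show g y ∈ (⊤ : Z.Opens) from trivial)
    obtain ⟨(U : Y.Opens), hU, hyU, hUV⟩ := Opens.isBasis_iff_nbhd.1 Y.isBasis_affineOpens
      (show y ∈ g ⁻¹ᵁ V from hyV)
    obtain ⟨n, φ, hφ⟩ := exists_isChart_of_finiteType g U V hUV
      (LocallyOfFiniteType.finiteType_appLE g hV hU hUV)
    have := isClosedImmersion_affImm U hU φ hφ.1
    have h1 := H U hU V hV hUV n φ hφ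
    rw [chartPC_iff_chartD] at h1
    refine ⟨U, U.ι, inferInstance, ?_, pc_of_pc_pushD (affImm U φ)
      (pmAll_push_unit_of_isNPseudoCoherent g hg hU hV hUV φ hφ) _ r h1⟩
    rw [Scheme.Opens.range_ι]
    exact hyU

end Groth.Agent.H33.PCPush
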