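/-
# Relative pseudo-coherence: restriction to opens of the source and locality on the source (helper33)
-/
import Mathlib
import Groth.Agent.H33.PCPush.ChartFun

set_option autoImplicit false
universe u
open CategoryTheory CategoryTheory.Limits AlgebraicGeometry Scheme.Modules TopologicalSpace

attribute [local instance] HasDerivedCategory.standard

namespace Groth.Agent.H33.PCPush

open Groth.Agent.H5.PCAlong Groth.Agent.H5.PCTriangle Groth.Agent.H5.PCSummand
  Groth.Agent.H5.Approx Groth.Agent.H33.PC Groth.Agent.H16.ExactDer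
  Groth.Agent.H33.SchemeDer

section Id

variable {Y : Scheme.{u}}

/-- restriction along the identity does not change pseudo-coherence -/
lemma pc_restrictD_id_iff (m : ℤ) (K : DCoh.D Y) :
    DCoh.IsPseudoCoherentD m ((DCoh.restrictD (𝟙 Y)).obj K) ↔ DCoh.IsPseudoCoherentD m K := by
  constructor
  · intro h
    refine isPseudoCoherentD_of_locally' m K (fun y => ⟨Y, 𝟙 Y, inferInstance, ⟨y, rfl⟩, h⟩)
  · intro h
    exact pc_restrict' m K (𝟙 Y) h

end Id

variable {X' X : Scheme.{u}} (j : X' ⟶ X) [IsOpenImmersion j] (W' : X'.Opens)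

lemma le_preimage_image : W' ≤ j ⁻¹ᵁ (j ''ᵁ W') := by
  rw [Scheme.Hom.preimage_image_eq]

lemma isoImage_hom_eq_resLE :
    (j.isoImage W').hom = j.resLE (j ''ᵁ W') W' (le_preimage_image j W') := by
  rw [← cancel_mono (j ''ᵁ W').ι]
  simp

variable {R : Type u} [CommRing R] (φ : R →+* Γ(X, j ''ᵁ W'))

/-- the chart on `W' ⊆ X'` induced by a chart on its image -/
noncomputable abbrev pullChart : R →+* Γ(X', W') :=
  (j.appLE (j ''ᵁ W') W' (le_preimage_image j W')).hom.comp φ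

lemma affImm_pullChart :
    affImm W' (pullChart j W' φ) = (j.isoImage W').hom ≫ affImm (j ''ᵁ W') φ := by
  unfold affImm pullChart
  rw [CommRingCat.ofHom_comp, Spec.map_comp, ← Category.assoc, CommRingCat.ofHom_hom,
    Scheme.Opens.toSpecΓ_SpecMap_appLE, Category.assoc, isoImage_hom_eq_resLE]


include j in
/-- transport of the chart test along an open immersion -/
theorem affPC_pullChart_iff (hW : IsAffineOpen (j ''ᵁ W')) (hφ : Function.Surjective φ) (m : ℤ)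
    (K : DCoh.D X) :
    AffPC m ((DCoh.restrictD j).obj K) W' (pullChart j W' φ) ↔ AffPC m K (j ''ᵁ W') φ := by
  have i1 : IsClosedImmersion (affImm (j ''ᵁ W') φ) := isClosedImmersion_affImm _ hW φ hφ
  have i2 : IsClosedImmersion (affImm W' (pullChart j W' φ)) := by
    rw [affImm_pullChart]
    infer_instance
  rw [affPC_iff, affPC_iff]
  obtain ⟨r1⟩ := Groth.Agent.H33.Glue.nonempty_restrictD_iso_of_fac W'.ι j (W'.ι ≫ j) rfl
  obtain ⟨r2⟩ := Groth.Agent.H33.Glue.nonempty_restrictD_iso_of_fac (j.isoImage W').hom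
    (j ''ᵁ W').ι (W'.ι ≫ j) (j.isoImage_hom_ι W')
  have hc : (j.isoImage W').hom.opensRange =
      affImm (j ''ᵁ W') φ ⁻¹ᵁ
        Scheme.Hom.opensRange (𝟙 (Spec (CommRingCat.of R))) := by
    rw [Scheme.Hom.opensRange_of_isIso, Scheme.Hom.opensRange_of_isIso]
    rfl
  have bc := pushDRestrictIsoGen (affImm (j ''ᵁ W') φ) (affImm W' (pullChart j W' φ))
    (𝟙 (Spec (CommRingCat.of R))) (j.isoImage W').hom
    (by rw [Category.comp_id, affImm_pullChart]) hc
  have e : (pushD (affImm W' (pullChart j W' φ))).obj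
        ((DCoh.restrictD W'.ι).obj ((DCoh.restrictD j).obj K)) ≅
      (DCoh.restrictD (𝟙 (Spec (CommRingCat.of R)))).obj
        ((pushD (affImm (j ''ᵁ W') φ)).obj ((DCoh.restrictD (j ''ᵁ W').ι).obj K)) :=
    (pushD (affImm W' (pullChart j W' φ))).mapIso ((r1.app K).symm ≪≫ r2.app K) ≪≫
      (bc.app _).symm
  rw [← pc_restrictD_id_iff m ((pushD (affImm (j ''ᵁ W') φ)).obj _)]
  exact ⟨fun h => isPseudoCoherentD_of_iso e h, fun h => isPseudoCoherentD_of_iso e.symm h⟩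


lemma bijective_appLE_image :
    Function.Bijective (j.appLE (j ''ᵁ W') W' (le_preimage_image j W')).hom := by
  have h : j.appLE (j ''ᵁ W') W' (le_preimage_image j W') = (j.appIso W').hom :=
    (j.appIso_hom' W').symm
  rw [h]
  exact ConcreteCategory.bijective_of_isIso (j.appIso W').hom

/-- charts on the image correspond to charts on `W'` -/
lemma isChart_pullChart {S : Scheme.{u}} (f : X ⟶ S) (V : S.Opens) (h : j ''ᵁ W' ≤ f ⁻¹ᵁ V)
    (h' : W' ≤ (j ≫ f) ⁻¹ᵁ V) {n : ℕ}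
    (ψ : MvPolynomial (Fin n) Γ(S, V) →+* Γ(X, j ''ᵁ W')) (hψ : DerSch.IsChart f (j ''ᵁ W') V h ψ) :
    DerSch.IsChart (j ≫ f) W' V h' (pullChart j W' ψ) := by
  refine ⟨(bijective_appLE_image j W').2.comp hψ.1, ?_⟩
  have h1 := Scheme.Hom.appLE_comp_appLE j f V (j ''ᵁ W') W' h (le_preimage_image j W')
  unfold pullChart
  rw [RingHom.comp_assoc, hψ.2, ← CommRingCat.hom_comp, h1]

/-- every chart on `W'` is pulled back from a chart on the image -/
lemma exists_eq_pullChart {S : Scheme.{u}} (f : X ⟶ S) (V : S.Opens) (h : j ''ᵁ W' ≤ f ⁻¹ᵁ V)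
    (h' : W' ≤ (j ≫ f) ⁻¹ᵁ V) {n : ℕ}
    (ψ' : MvPolynomial (Fin n) Γ(S, V) →+* Γ(X', W'))
    (hψ' : DerSch.IsChart (j ≫ f) W' V h' ψ') :
    ∃ ψ : MvPolynomial (Fin n) Γ(S, V) →+* Γ(X, j ''ᵁ W'),
      DerSch.IsChart f (j ''ᵁ W') V h ψ ∧ pullChart j W' ψ = ψ' := by
  let e : Γ(X, j ''ᵁ W') ≃+* Γ(X', W') :=
    RingEquiv.ofBijective _ (bijective_appLE_image j W')
  have he : ∀ x, (j.appLE (j ''ᵁ W') W' (le_preimage_image j W')).hom (e.symm x) = x :=
    fun x => e.apply_symm_apply x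
  refine ⟨(e.symm : Γ(X', W') →+* Γ(X, j ''ᵁ W')).comp ψ', ⟨?_, ?_⟩, ?_⟩
  · exact e.symm.surjective.comp hψ'.1
  · have h1 := Scheme.Hom.appLE_comp_appLE j f V (j ''ᵁ W') W' h (le_preimage_image j W')
    refine RingHom.ext (fun a => ?_)
    have h2 := congrArg (fun t => t a) hψ'.2
    simp only [RingHom.comp_apply] at h2 ⊢
    apply (bijective_appLE_image j W').1
    rw [RingHom.coe_coe, he, h2, ← h1]
    rfl
  · refine RingHom.ext (fun x => ?_)
    simp only [pullChart, RingHom.comp_apply, RingHom.coe_coe]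
    exact he _


section Main

variable {S : Scheme.{u}} (f : X ⟶ S)

lemma isPseudoCoherentRel_of_iso {m : ℤ} {K K' : DCoh.D X} (e : K ≅ K')
    (h : DerSch.IsPseudoCoherentRel f m K) : DerSch.IsPseudoCoherentRel f m K' := by
  obtain ⟨h1, 𝒱, h𝒱, H⟩ := h
  refine ⟨h1, 𝒱, h𝒱, fun V hV => ?_⟩
  obtain ⟨𝒰, h𝒰, HU⟩ := H V hV
  refine ⟨𝒰, h𝒰, fun U hU hUV => ?_⟩
  obtain ⟨n, φ, hφ, hpc⟩ := HU U hU hUV
  exact ⟨n, φ, hφ, fun G ⟨eG⟩ => hpc G ⟨eG ≪≫ e.symm⟩⟩

/-- relative pseudo-coherence restricts along open immersions of the source -/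
theorem isPseudoCoherentRel_restrictD (m : ℤ) (K : DCoh.D X)
    (hK : DerSch.IsPseudoCoherentRel f m K) :
    DerSch.IsPseudoCoherentRel (j ≫ f) m ((DCoh.restrictD j).obj K) := by
  have lft : LocallyOfFiniteType f := hK.1
  rw [isPseudoCoherentRel_iff_forall_chart]
  intro W' hW' V hV h' n ψ' hψ'
  have hW : IsAffineOpen (j ''ᵁ W') := hW'.image_of_isOpenImmersion j
  have h : j ''ᵁ W' ≤ f ⁻¹ᵁ V := by
    rintro _ ⟨y, hy, rfl⟩
    exact h' hy
  obtain ⟨ψ, hψ, rfl⟩ := exists_eq_pullChart j W' f V h h' ψ' hψ'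
  rw [chartPC_iff_affPC, affPC_pullChart_iff j W' ψ hW hψ.1]
  exact (isPseudoCoherentRel_iff_forall_chart f m K).1 hK _ hW V hV h n ψ hψ

/-- relative pseudo-coherence is local on the source -/
theorem isPseudoCoherentRel_of_openCover [LocallyOfFiniteType f] (m : ℤ) (K : DCoh.D X)
    {ι : Type*} (U : ι → X.Opens) (hU : ⨆ i, U i = ⊤)
    (h : ∀ i : ι, DerSch.IsPseudoCoherentRel ((U i).ι ≫ f) m
      ((DCoh.restrictD (U i).ι).obj K)) :
    DerSch.IsPseudoCoherentRel f m K := by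
  rw [isPseudoCoherentRel_iff_forall_chart]
  intro W hW V hV hWV n φ hφ
  refine chartPC_of_cover f hW V hWV φ hφ m K {g | HasChartPC f m K (X.basicOpen g) V} ?_
    (fun g hg => hg)
  rw [← hW.self_le_iSup_basicOpen_iff]
  intro x hx
  have hxU : x ∈ ⨆ i, U i := by rw [hU]; trivial
  obtain ⟨i, hxi⟩ := Opens.mem_iSup.1 hxU
  obtain ⟨g, hgU, hxg⟩ := hW.exists_basicOpen_le (V := U i) ⟨x, hxi⟩ hx
  refine Opens.mem_iSup.2 ⟨⟨g, ?_⟩, hxg⟩
  -- the chart test on `D(g) ⊆ U i`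
  let W' : (U i : Scheme.{u}).Opens := (U i).ι ⁻¹ᵁ X.basicOpen g
  have himg : (U i).ι ''ᵁ W' = X.basicOpen g := by
    rw [Scheme.Hom.image_preimage_eq_opensRange_inf, Scheme.Opens.opensRange_ι]
    exact inf_eq_right.2 hgU
  have hg_aff : IsAffineOpen (X.basicOpen g) := hW.basicOpen g
  have hW' : IsAffineOpen W' := by
    rw [← Scheme.Hom.isAffineOpen_iff_of_isOpenImmersion (U i).ι, himg]
    exact hg_aff
  have hgV : X.basicOpen g ≤ f ⁻¹ᵁ V := (X.basicOpen_le g).trans hWV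
  have h' : W' ≤ ((U i).ι ≫ f) ⁻¹ᵁ V := fun y hy => hgV hy
  obtain ⟨_, n', ψ', hψ', hpc'⟩ :=
    hasChartPC_of_isPseudoCoherentRel ((U i).ι ≫ f) m _ (h i) hW' hV h'
  have himg_le : (U i).ι ''ᵁ W' ≤ f ⁻¹ᵁ V := himg ▸ hgV
  obtain ⟨ψ, hψ, rfl⟩ := exists_eq_pullChart (U i).ι W' f V himg_le h' ψ' hψ'
  rw [chartPC_iff_affPC, affPC_pullChart_iff (U i).ι W' ψ (himg ▸ hg_aff) hψ.1] at hpc'
  have key : HasChartPC f m K ((U i).ι ''ᵁ W') V := ⟨himg_le, n', ψ, hψ, hpc'⟩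
  rw [himg] at key
  exact key

end Main

end Groth.Agent.H33.PCPush
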