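/-
# Pseudo-coherence from the cohomology sheaves (absolute version) (helper33)
-/
import Mathlib
import Groth.Agent.H33.PCPush.AbsRel

set_option autoImplicit false
universe u
open CategoryTheory CategoryTheory.Limits AlgebraicGeometry Scheme.Modules TopologicalSpace

attribute [local instance] HasDerivedCategory.standard

namespace Groth.Agent.H33.PCPush

open Groth.Agent.H5.PCAlong Groth.Agent.H5.PCTriangle Groth.Agent.H5.PCSummand
  Groth.Agent.H5.Approx Groth.Agent.H33.PC Groth.Agent.H16.ExactDer
  Groth.Agent.H33.SchemeDer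
open DerivedCategory DerivedCategory.TStructure Pretriangulated ZeroObject

variable {X : Scheme.{u}}

lemma pc_inD_of_iso {M N : X.Modules} (e : M ≅ N) (m : ℤ)
    (h : DCoh.IsPseudoCoherentD m (DCoh.inD X M)) : DCoh.IsPseudoCoherentD m (DCoh.inD X N) :=
  isPseudoCoherentD_of_iso ((DerivedCategory.singleFunctor X.Modules 0).mapIso e) h

lemma pc_inD_of_isZero {M : X.Modules} (hM : IsZero M) (m : ℤ) :
    DCoh.IsPseudoCoherentD m (DCoh.inD X M) :=
  pc_of_isZero m _ ((DerivedCategory.singleFunctor X.Modules 0).map_isZero hM)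

/-- a module placed in degree `j`: pseudo-coherence by shifting -/
lemma pc_single_shift (M : X.Modules) (j m : ℤ)
    (h : DCoh.IsPseudoCoherentD (m - j) (DCoh.inD X M)) :
    DCoh.IsPseudoCoherentD m ((DerivedCategory.singleFunctor X.Modules j).obj M) := by
  have h0 := isPseudoCoherentD_shift (DCoh.inD X M) (-j) m (m := m - j) (by omega) h
  exact isPseudoCoherentD_of_iso
    (((DerivedCategory.singleFunctors X.Modules).shiftIso (-j) j 0 (by omega)).app M) h0

/-- an object with bounded above cohomology whose cohomology sheaves `H^i` are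
`(m - i)`-pseudo-coherent is `m`-pseudo-coherent -/
theorem pc_of_homology_pc : ∀ (n : ℕ) (K : DCoh.D X) (b m : ℤ),
    K.IsLE b → b < m + n →
    (∀ i : ℤ, DCoh.IsPseudoCoherentD (m - i) (DCoh.inD X (DCoh.HD K i))) →
    DCoh.IsPseudoCoherentD m K
  | 0, K, b, m, hb, hbm, _ => pc_of_isLE K b m hb (by omega)
  | n + 1, K, b, m, hb, hbm, hK => by
    rcases lt_or_ge b m with h | h
    · exact pc_of_isLE K b m hb h
    · let T := (t.triangleLEGE (b - 1) b (by omega)).obj K
      have hT : T ∈ distTriang _ := t.triangleLEGE_distinguished (b - 1) b (by omega) K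
      have hle : T.obj₁.IsLE (b - 1) :=
        inferInstanceAs (t.IsLE ((t.truncLE (b - 1)).obj K) (b - 1))
      have h₁ : DCoh.IsPseudoCoherentD m T.obj₁ := by
        refine pc_of_homology_pc n T.obj₁ (b - 1) m hle (by push_cast at hbm; omega)
          (fun i => ?_)
        rcases le_or_gt i (b - 1) with hi' | hi'
        · have := isIso_homology_truncLEι K (b - 1) i hi'
          exact pc_inD_of_iso
            (asIso ((homologyFunctor _ i).map ((t.truncLEι (b - 1)).app K))).symm _ (hK i)
        · exact pc_inD_of_isZero (DerivedCategory.isZero_of_isLE T.obj₁ (b - 1) i hi') _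
      have hge : T.obj₃.IsGE b := inferInstanceAs (t.IsGE ((t.truncGE b).obj K) b)
      have hle₃ : T.obj₃.IsLE b := by
        rw [DerivedCategory.isLE_iff]
        intro i hi
        have := isIso_homology_truncGEπ K b i (by omega)
        exact IsZero.of_iso (DerivedCategory.isZero_of_isLE K b i hi)
          (asIso ((homologyFunctor _ i).map ((t.truncGEπ b).app K))).symm
      obtain ⟨Y, ⟨e⟩⟩ := DerivedCategory.exists_iso_singleFunctor_obj_of_isGE_of_isLE T.obj₃ b
      have hY : DCoh.IsPseudoCoherentD (m - b) (DCoh.inD X Y) := by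
        have := isIso_homology_truncGEπ K b b le_rfl
        exact pc_inD_of_iso
          (asIso ((homologyFunctor _ b).map ((t.truncGEπ b).app K)) ≪≫
            (homologyFunctor _ b).mapIso e ≪≫
            (DerivedCategory.singleFunctorCompHomologyFunctorIso X.Modules b).app Y) _ (hK b)
      have h₃ : DCoh.IsPseudoCoherentD m T.obj₃ :=
        isPseudoCoherentD_of_iso e.symm (pc_single_shift Y b m hY)
      exact (triangle m T hT).2.1 h₁ h₃

end Groth.Agent.H33.PCPush
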