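/-
# Pseudo-coherence from the terms of a bounded above complex (absolute version) (helper33)
-/
import Mathlib
import Groth.Agent.H33.PCPush.AbsHom
import Groth.Agent.H5.StupidGE
import Groth.Agent.H5.LocalLiftQis

set_option autoImplicit false
universe w v u
open CategoryTheory CategoryTheory.Limits AlgebraicGeometry Scheme.Modules TopologicalSpace

namespace Groth.Agent.H33.PCPush

section Induction

open DerivedCategory Pretriangulated

variable {C : Type u} [Category.{v} C] [Abelian C] [HasDerivedCategory.{w} C]

/-- Induction over bounded complexes, with a degree-dependent condition on the terms. -/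
theorem induction_bounded' (P : DerivedCategory C → Prop) (Cm : ℤ → C → Prop)
    (hCiso : ∀ (i : ℤ) (M N : C), (M ≅ N) → Cm i M → Cm i N)
    (hzero : ∀ X : DerivedCategory C, IsZero X → P X)
    (hext : ∀ T : Triangle (DerivedCategory C), T ∈ distTriang (DerivedCategory C) →
      P T.obj₁ → P T.obj₃ → P T.obj₂)
    (hsingle : ∀ (M : C) (i : ℤ), Cm i M →
      P (Q.obj ((HomologicalComplex.single C (ComplexShape.up ℤ) i).obj M)))
    (E : CochainComplex C ℤ) (a b : ℤ) (hE : ∀ i : ℤ, i < a ∨ b < i → IsZero (E.X i))
    (hC : ∀ i : ℤ, a ≤ i → i ≤ b → Cm i (E.X i)) : P (Q.obj E) := by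
  obtain ⟨n, hn⟩ : ∃ n : ℕ, b < a + n := ⟨(b - a + 1).toNat, by omega⟩
  induction n generalizing E a with
  | zero =>
    apply hzero
    apply isZero_Q_of_isZero_X
    intro i
    apply hE
    omega
  | succ n ih =>
    have ha : IsZero (E.X (a - 1)) := hE _ (Or.inl (by omega))
    have hT := bottom_triangle_distinguished E a ha
    refine hext _ hT ?_ ?_
    · refine ih (truncBottom E a ha) (a + 1) ?_ ?_ (by omega)
      · intro i hi
        by_cases h : i = a
        · subst h
          exact truncBottom_isZero_X E i ha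
        · exact truncBottom_isZero_of_isZero E a ha i (hE i (by omega))
      · intro i hi hi'
        exact hCiso _ _ _ (truncBottomXIso E a ha i (by omega)).symm (hC i (by omega) hi')
    · by_cases hab : a ≤ b
      · exact hsingle _ _ (hC a le_rfl hab)
      · apply hzero
        apply isZero_Q_of_isZero_X
        intro i
        by_cases h : i = a
        · subst h
          exact IsZero.of_iso (hE i (Or.inr (by omega)))
            (HomologicalComplex.singleObjXSelf (ComplexShape.up ℤ) i (E.X i))
        · exact HomologicalComplex.isZero_single_obj_X _ _ _ _ h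

end Induction

section Scheme

attribute [local instance] HasDerivedCategory.standard

open Groth.Agent.H5.PCAlong Groth.Agent.H5.PCTriangle Groth.Agent.H5.PCSummand
  Groth.Agent.H5.Approx Groth.Agent.H33.PC Groth.Agent.H16.ExactDer
  Groth.Agent.H33.SchemeDer Groth.Agent.H5.StupidGE

variable {X : Scheme.{u}}

/-- bounded case -/
theorem pc_of_termwise_pc_bounded (G : CochainComplex X.Modules ℤ) (a b : ℤ)
    (hG : ∀ i : ℤ, i < a ∨ b < i → IsZero (G.X i)) (m : ℤ)
    (h : ∀ i : ℤ, a ≤ i → i ≤ b → DCoh.IsPseudoCoherentD (m - i) (DCoh.inD X (G.X i))) :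
    DCoh.IsPseudoCoherentD m (DerivedCategory.Q.obj G) := by
  refine induction_bounded' (fun K => DCoh.IsPseudoCoherentD m K)
    (fun i M => DCoh.IsPseudoCoherentD (m - i) (DCoh.inD X M))
    (fun i M N e hM => pc_inD_of_iso e _ hM)
    (fun K hK => pc_of_isZero m _ hK)
    (fun T hT h₁ h₃ => (triangle m T hT).2.1 h₁ h₃)
    (fun M i hM => ?_) G a b hG h
  exact isPseudoCoherentD_of_iso ((DerivedCategory.singleFunctorIsoCompQ X.Modules i).app M)
    (pc_single_shift M i m hM)

/-- a bounded above complex whose terms `G^i` are `(m - i)`-pseudo-coherent is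
`m`-pseudo-coherent -/
theorem pc_of_termwise_pc (G : CochainComplex X.Modules ℤ) (b : ℤ)
    (hG : ∀ i : ℤ, b < i → IsZero (G.X i)) (m : ℤ)
    (h : ∀ i : ℤ, DCoh.IsPseudoCoherentD (m - i) (DCoh.inD X (G.X i))) :
    DCoh.IsPseudoCoherentD m (DerivedCategory.Q.obj G) := by
  have h1 : DCoh.IsPseudoCoherentD m (DerivedCategory.Q.obj (sigmaGE G m)) := by
    refine pc_of_termwise_pc_bounded (sigmaGE G m) m b (fun i hi => ?_) m (fun i hi hi' => ?_)
    · rcases hi with hi | hi
      · exact isZero_X G m i hi
      · by_cases hmi : m ≤ i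
        · exact IsZero.of_iso (hG i hi) (XIso G m i hmi)
        · exact isZero_X G m i (by omega)
    · exact pc_inD_of_iso (XIso G m i hi).symm _ (h i)
  have hT := DerivedCategory.mappingCone_triangle_distinguished (Groth.Agent.H5.StupidGE.ι G m)
  have h3 : DCoh.IsPseudoCoherentD m
      (DerivedCategory.Q.obj (CochainComplex.mappingCone (Groth.Agent.H5.StupidGE.ι G m))) := by
    have : (DerivedCategory.Q.obj
        (CochainComplex.mappingCone (Groth.Agent.H5.StupidGE.ι G m))).IsLE (m - 1) :=
      isLE_Q_of_isZero_homology _ _ (fun j hj =>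
        Groth.Agent.H5.LocalLiftQis.isZero_homology_mappingCone _ m
          (fun j hj => isIso_homologyMap_ι G m j hj) (epi_homologyMap_ι G m) j (by omega))
    exact pc_of_isLE _ (m - 1) m this (by omega)
  exact (triangle m _ hT).2.1 h1 h3

end Scheme

end Groth.Agent.H33.PCPush
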