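/-
# Global derived-level approximation data gives pseudo-coherence (helper33)
-/
import Mathlib
import Groth.Agent.H33.PCPush.AbsTerm

set_option autoImplicit false
universe u
open CategoryTheory CategoryTheory.Limits AlgebraicGeometry Scheme.Modules TopologicalSpace

attribute [local instance] HasDerivedCategory.standard

namespace Groth.Agent.H33.PCPush

open Groth.Agent.H5.PCAlong Groth.Agent.H5.PCTriangle Groth.Agent.H5.PCSummand
  Groth.Agent.H5.Approx Groth.Agent.H33.PC Groth.Agent.H16.ExactDer
  Groth.Agent.H33.SchemeDer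

variable {X : Scheme.{u}}

/-- global derived-level approximation data gives pseudo-coherence -/
theorem pc_of_global_approx (m : ℤ) (K : DCoh.D X) (P : CochainComplex X.Modules ℤ)
    (hP : DCoh.IsStrictlyPerfect P) (α : DerivedCategory.Q.obj P ⟶ K)
    (hiso : ∀ i : ℤ, m < i → IsIso ((DerivedCategory.homologyFunctor X.Modules i).map α))
    (hepi : Epi ((DerivedCategory.homologyFunctor X.Modules m).map α)) :
    DCoh.IsPseudoCoherentD m K := by
  intro x
  refine ⟨⊤, trivial, fun F ⟨eF⟩ => ?_⟩
  let F' := restrictFunctor (⊤ : X.Opens).ι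
  let a1 : DerivedCategory.Q.obj ((DCoh.restrictCx (⊤ : X.Opens)).obj P) ≅
      (DCoh.restrictD (⊤ : X.Opens).ι).obj (DerivedCategory.Q.obj P) :=
    (F'.mapDerivedCategoryFactors.app P).symm
  let a3 : (DCoh.restrictD (⊤ : X.Opens).ι).obj (DerivedCategory.Q.obj F) ≅
      DerivedCategory.Q.obj ((DCoh.restrictCx (⊤ : X.Opens)).obj F) :=
    F'.mapDerivedCategoryFactors.app F
  refine ⟨(DCoh.restrictCx (⊤ : X.Opens)).obj P,
    a1.hom ≫ (DCoh.restrictD (⊤ : X.Opens).ι).map (α ≫ eF.inv) ≫ a3.hom,
    Groth.Agent.H33.Perf.isStrictlyPerfect_restrict (⊤ : X.Opens).ι P hP, fun i hi => ?_, ?_⟩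
  · have := hiso i hi
    have h1 : IsIso ((DerivedCategory.homologyFunctor X.Modules i).map (α ≫ eF.inv)) := by
      rw [Functor.map_comp]; infer_instance
    have h2 := isIso_homology_map F' (α ≫ eF.inv) i
    rw [Functor.map_comp, Functor.map_comp]
    infer_instance
  · have h1 : Epi ((DerivedCategory.homologyFunctor X.Modules m).map (α ≫ eF.inv)) := by
      rw [Functor.map_comp]; infer_instance
    have h2 := epi_homology_map F' (α ≫ eF.inv) m
    rw [Functor.map_comp, Functor.map_comp]
    infer_instance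

end Groth.Agent.H33.PCPush
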