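/-
# Relative pseudo-coherence from the cohomology sheaves (helper33)
-/
import Mathlib
import Groth.Agent.H33.PCPush.AbsHom

set_option autoImplicit false
universe u
open CategoryTheory CategoryTheory.Limits AlgebraicGeometry Scheme.Modules TopologicalSpace

attribute [local instance] HasDerivedCategory.standard

namespace Groth.Agent.H33.PCPush

open Groth.Agent.H5.PCAlong Groth.Agent.H5.PCTriangle Groth.Agent.H5.PCSummand
  Groth.Agent.H5.Approx Groth.Agent.H33.PC Groth.Agent.H16.ExactDer
  Groth.Agent.H33.SchemeDer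

section General

universe w₁ w₂ v₁ v₂ u₁ u₂
variable {C₁ : Type u₁} [Category.{v₁} C₁] [Abelian C₁] [HasDerivedCategory.{w₁} C₁]
  {C₂ : Type u₂} [Category.{v₂} C₂] [Abelian C₂] [HasDerivedCategory.{w₂} C₂]
  (F : C₁ ⥤ C₂) [F.Additive] [PreservesFiniteLimits F] [PreservesFiniteColimits F]

lemma isLE_mapDerivedCategory (K : DerivedCategory C₁) (b : ℤ) [K.IsLE b] :
    (F.mapDerivedCategory.obj K).IsLE b := by
  rw [DerivedCategory.isLE_iff]
  intro j hj
  exact IsZero.of_iso (F.map_isZero (DerivedCategory.isZero_of_isLE K b j hj))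
    ((homologyNatIso F j).app K)

end General

variable {X S : Scheme.{u}} (f : X ⟶ S)

/-- homology of the chart functor -/
noncomputable def chartDHomologyIso (U : X.Opens) {R : Type u} [CommRing R] (φ : R →+* Γ(X, U))
    [IsClosedImmersion (affImm U φ)] (E : DCoh.D X) (i : ℤ) :
    DCoh.HD ((chartD U φ).obj E) i ≅
      (Scheme.Modules.pushforward (affImm U φ)).obj ((restrictFunctor U.ι).obj (DCoh.HD E i)) :=
  (homologyNatIso (Scheme.Modules.pushforward (affImm U φ)) i).app _ ≪≫
    (Scheme.Modules.pushforward (affImm U φ)).mapIso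
      ((homologyNatIso (restrictFunctor U.ι) i).app E)

/-- relative pseudo-coherence from the cohomology sheaves -/
theorem isPseudoCoherentRel_of_homology (m : ℤ) (E : DCoh.D X) (b : ℤ) [E.IsLE b]
    (h : ∀ i : ℤ, DerSch.IsPseudoCoherentRel f (m - i) (DCoh.inD X (DCoh.HD E i))) :
    DerSch.IsPseudoCoherentRel f m E := by
  have hlft : LocallyOfFiniteType f := (h 0).1
  rw [isPseudoCoherentRel_iff_forall_chart]
  intro U hU V hV hUV n φ hφ
  have := isClosedImmersion_affImm U hU φ hφ.1
  rw [chartPC_iff_chartD]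
  have hle : ((chartD U φ).obj E).IsLE b := by
    have := isLE_mapDerivedCategory (restrictFunctor U.ι) E b
    exact isLE_mapDerivedCategory (Scheme.Modules.pushforward (affImm U φ)) _ b
  obtain ⟨k, hk⟩ : ∃ k : ℕ, b < m + k := ⟨(b - m + 1).toNat, by omega⟩
  refine pc_of_homology_pc k _ b m hle hk (fun i => ?_)
  have h1 := (isPseudoCoherentRel_iff_forall_chart f (m - i) _).1 (h i) U hU V hV hUV n φ hφ
  rw [chartPC_iff_chartD] at h1
  exact pc_inD_of_iso (chartDHomologyIso U φ E i).symm _
    (isPseudoCoherentD_of_iso (chartDSingleIso U φ _) h1)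

end Groth.Agent.H33.PCPush
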