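/-
# The affine comparison: `M~` is `m`-pseudo-coherent on `Spec R` iff `M` is `m`-pseudo-coherent in `D(R)`
(helper33; S1004)
-/
import Mathlib
import Groth.Agent.H33.PCPush.GlobalApprox
import Groth.Agent.H28.PCohRing
import Groth.Agent.H44.FiniteSections
import Groth.Agent.H47.TildeExact
import Groth.Agent.H5.PerfectFree
import Groth.Agent.H33.PCPush.SingleCone
import Groth.Agent.H33.PCPush.RelHom

set_option autoImplicit false
universe u
open CategoryTheory CategoryTheory.Limits AlgebraicGeometry Scheme.Modules TopologicalSpace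

attribute [local instance] HasDerivedCategory.standard

namespace Groth.Agent.H33.PCPush

open Groth.Agent.H5.PCAlong Groth.Agent.H5.PCTriangle Groth.Agent.H5.PCSummand
  Groth.Agent.H5.Approx Groth.Agent.H33.PC Groth.Agent.H16.ExactDer
  Groth.Agent.H33.SchemeDer

variable (R : CommRingCat.{u})

/-- the tilde of a finite free module is finite locally free -/
lemma isFinLocFree_tilde (N : ModuleCat.{u} R) [Module.Finite R N] [Module.Free R N] :
    FlatMod.IsFinLocFree ((tilde.functor R).obj N) := by
  let b := Module.Free.chooseBasis R N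
  let n := Fintype.card (Module.Free.ChooseBasisIndex R N)
  let e : Module.Free.ChooseBasisIndex R N ≃ ULift.{u} (Fin n) :=
    (Fintype.equivFin _).trans Equiv.ulift.symm
  let l : N ≃ₗ[R] (ULift.{u} (Fin n) →₀ R) := b.repr.trans (Finsupp.domLCongr e)
  have iso : (tilde.functor R).obj N ≅ FlatMod.freeMod (Spec R) n :=
    (tilde.functor R).mapIso (l.toModuleIso (X₁ := N)
      (X₂ := ModuleCat.of R (ULift.{u} (Fin n) →₀ R))) ≪≫ tildeFinsupp _ ≪≫
      (Groth.Agent.H44.freeModIsoFree _ n).symm
  exact Groth.Agent.H33.Perf.isFinLocFree_of_iso' iso.symm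
    (Groth.Agent.H5.PerfectFree.isFinLocFree_freeMod n)


/-- (⇐) of the affine comparison -/
theorem pc_tildeD_of_isPseudoCoherent [PreservesFiniteLimits (tilde.functor R)] (m : ℤ)
    (M : DerivedCategory (ModuleCat.{u} R)) (h : DRing.IsPseudoCoherent R m M) :
    DCoh.IsPseudoCoherentD m ((DCoh.tildeD R).obj M) := by
  obtain ⟨E, a, b, α, hE, hfree, hiso, hepi⟩ := h
  have hc := Groth.Agent.H47.tilde_preservesFiniteColimits R
  let P := ((tilde.functor R).mapHomologicalComplex (ComplexShape.up ℤ)).obj E
  have hP : DCoh.IsStrictlyPerfect P :=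
    ⟨⟨a, b, fun i hi => (tilde.functor R).map_isZero (hE i hi)⟩, fun i => by
      have := (hfree i).1
      have := (hfree i).2
      exact isFinLocFree_tilde R (E.X i)⟩
  refine pc_of_global_approx m _ P hP
    ((QIso (tilde.functor R) E).inv ≫ (DCoh.tildeD R).map α) (fun i hi => ?_) ?_
  · have := hiso i hi
    have := isIso_homology_map (tilde.functor R) α i
    rw [Functor.map_comp]
    infer_instance
  · have := epi_homology_map (tilde.functor R) α m
    rw [Functor.map_comp]
    infer_instance


/-- a module whose tilde is locally finitely generated is finite -/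
lemma finite_of_locFinGen_tilde (N : ModuleCat.{u} R)
    (h : LocFinGen ((tilde.functor R).obj N)) : Module.Finite R N := by
  have hFT : SheafOfModules.IsFiniteType (R := (Spec R).ringCatSheaf) ((tilde.functor R).obj N) :=
    isFT_of_locFinGen _ h
  have hq : ((tilde.functor R).obj N).IsQuasicoherent := inferInstance
  have h1 : Module.Finite Γ(Spec R, ⊤) Γ((tilde.functor R).obj N, ⊤) :=
    Groth.Agent.H44.finite_sections_of_isFiniteType (X := Spec R) ((tilde.functor R).obj N)
      (V := ⊤) (isAffineOpen_top _)
  have h2 : Module.Finite R Γ(Spec R, ⊤) := by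
    refine Module.Finite.of_surjective (Algebra.linearMap R Γ(Spec R, ⊤)) ?_
    intro x
    refine ⟨(Scheme.ΓSpecIso R).hom x, ?_⟩
    change ((Spec R).presheaf.map (⊤ : (Spec R).Opens).leTop.op)
      ((Scheme.ΓSpecIso R).inv ((Scheme.ΓSpecIso R).hom x)) = x
    have h0 : (Opens.leTop (⊤ : (Spec R).Opens)).op = 𝟙 _ := rfl
    rw [h0, (Spec R).presheaf.map_id]
    simp
  have h3 : Module.Finite R Γ((tilde.functor R).obj N, ⊤) :=
    Module.Finite.trans Γ(Spec R, ⊤) _
  have h4 : Module.Finite R ((modulesSpecToSheaf.obj (tilde N)).presheaf.obj (Opposite.op ⊤)) := h3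
  exact Module.Finite.equiv (tilde.isoTop N).toLinearEquiv.symm


section Ring

open Groth.Agent.H28 Groth.Agent.H28.PCohRing DerivedCategory

/-- a finite free module placed in one degree is pseudo-coherent (ring level) -/
lemma isPseudoCoherent_single_finFree (F : ModuleCat.{u} R) [Module.Finite R F] [Module.Free R F]
    (b m : ℤ) :
    DRing.IsPseudoCoherent R m (DerivedCategory.Q.obj
      ((HomologicalComplex.single (ModuleCat.{u} R) (ComplexShape.up ℤ) b).obj F)) := by
  refine ⟨_, b, b, 𝟙 _, fun i hi => ?_, fun i => ?_, fun i _ => ?_, ?_⟩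
  · exact HomologicalComplex.isZero_single_obj_X _ _ _ _ (by omega)
  · by_cases hi : i = b
    · subst hi
      let l := (HomologicalComplex.singleObjXSelf (ComplexShape.up ℤ) i F).toLinearEquiv
      exact ⟨Module.Finite.equiv l.symm, Module.Free.of_equiv l.symm⟩
    · have hz : IsZero (((HomologicalComplex.single (ModuleCat.{u} R) (ComplexShape.up ℤ) b).obj
          F).X i) := HomologicalComplex.isZero_single_obj_X _ _ _ _ hi
      have := ModuleCat.subsingleton_of_isZero hz
      exact ⟨inferInstance, inferInstance⟩
  · rw [CategoryTheory.Functor.map_id]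
    infer_instance
  · rw [CategoryTheory.Functor.map_id]
    infer_instance

end Ring


section Main

open Groth.Agent.H28 Groth.Agent.H28.PCohRing Groth.Agent.H28.PCohDev Groth.Agent.H28.PCohSum
  Groth.Agent.H28.PCohDer DerivedCategory

variable [PreservesFiniteLimits (tilde.functor R)]

/-- (⇒) of the affine comparison: induction on the top degree -/
theorem isNPC_of_pc_tildeD_aux (m : ℤ) : ∀ (k : ℕ) (M : DerivedCategory (ModuleCat.{u} R)) (b : ℤ),
    M.IsLE b → b < m + k → DCoh.IsPseudoCoherentD m ((DCoh.tildeD R).obj M) →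
    IsNPC (finFree R) m M
  | 0, M, b, hb, hbm, _ =>
    isNPC_of_acyclic (finFree R) m M (fun i hi => DerivedCategory.isZero_of_isLE M b i (by omega))
  | k + 1, M, b, hb, hbm, h => by
    have hc := Groth.Agent.H47.tilde_preservesFiniteColimits R
    rcases lt_or_ge b m with hlt | hge
    · exact isNPC_of_acyclic (finFree R) m M
        (fun i hi => DerivedCategory.isZero_of_isLE M b i (by omega))
    · have hle : ((DCoh.tildeD R).obj M).IsLE b := isLE_mapDerivedCategory (tilde.functor R) M b
      have h_b : DCoh.IsPseudoCoherentD b ((DCoh.tildeD R).obj M) := pc_mono hge _ h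
      have h2 : LocFinGen (DCoh.HD ((DCoh.tildeD R).obj M) b) :=
        isFT_HD b _ h_b (fun j hj => DerivedCategory.isZero_of_isLE _ b j hj)
      have h3 : LocFinGen ((tilde.functor R).obj ((homologyFunctor (ModuleCat.{u} R) b).obj M)) :=
        locFinGen_of_iso ((homologyNatIso (tilde.functor R) b).app M) h2
      have hfin : Module.Finite R ((homologyFunctor (ModuleCat.{u} R) b).obj M) :=
        finite_of_locFinGen_tilde R _ h3
      obtain ⟨K, hK, ⟨e⟩⟩ := DerivedCategory.exists_iso_Q_obj_of_isLE M b
      let ehom : (homologyFunctor (ModuleCat.{u} R) b).obj M ≅ K.homology b :=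
        (homologyFunctor (ModuleCat.{u} R) b).mapIso e ≪≫
          (homologyFunctorFactors (ModuleCat.{u} R) b).app K
      have hfinK : Module.Finite R (K.homology b) := Module.Finite.equiv ehom.toLinearEquiv
      obtain ⟨n, f, hf⟩ := Module.Finite.exists_fin' R (K.homology b)
      let F : ModuleCat.{u} R := ModuleCat.of R (Fin n → R)
      have hFfin : Module.Finite R F := inferInstanceAs (Module.Finite R (Fin n → R))
      have hFfree : Module.Free R F := inferInstanceAs (Module.Free R (Fin n → R))
      have hFproj : Projective F := projective_of_finFree R F ⟨hFfin, hFfree⟩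
      let q : F ⟶ K.homology b := ModuleCat.ofHom f
      have hq : Epi q := (ModuleCat.epi_iff_surjective q).mpr hf
      obtain ⟨s, hs⟩ := exists_map_single_cone K b
        (fun i hi => K.isZero_of_isStrictlyLE b i hi) F q
      let T := DerivedCategory.Q.mapTriangle.obj (CochainComplex.mappingCone.triangle s)
      have hT : T ∈ distTriang _ := DerivedCategory.mappingCone_triangle_distinguished s
      have hC : (DerivedCategory.Q.obj (CochainComplex.mappingCone s)).IsLE (b - 1) :=
        isLE_Q_of_isZero_homology _ _ (fun j hj => hs j (by omega))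
      have hT' := (DCoh.tildeD R).map_distinguished T hT
      have h1' : DCoh.IsPseudoCoherentD (m + 1) ((DCoh.tildeD R).obj (DerivedCategory.Q.obj
          ((HomologicalComplex.single (ModuleCat.{u} R) (ComplexShape.up ℤ) b).obj F))) :=
        pc_tildeD_of_isPseudoCoherent R (m + 1) _ (isPseudoCoherent_single_finFree R F b (m + 1))
      have h2' : DCoh.IsPseudoCoherentD m ((DCoh.tildeD R).obj (DerivedCategory.Q.obj K)) :=
        isPseudoCoherentD_of_iso ((DCoh.tildeD R).mapIso e) h
      have h3' : DCoh.IsPseudoCoherentD m ((DCoh.tildeD R).obj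
          (DerivedCategory.Q.obj (CochainComplex.mappingCone s))) :=
        (triangle m _ hT').1 h1' h2'
      have hCm := isNPC_of_pc_tildeD_aux m k _ (b - 1) hC (by push_cast at hbm; omega) h3'
      have h1 : IsNPC (finFree R) m (DerivedCategory.Q.obj
          ((HomologicalComplex.single (ModuleCat.{u} R) (ComplexShape.up ℤ) b).obj F)) :=
        (isPseudoCoherent_iff_isNPC R m _).1 (isPseudoCoherent_single_finFree R F b m)
      exact IsNPC.of_iso _ (isNPC_obj₂ (finFree R) (hql_finFree R) (finFree_prod R)
        (hqs_finFree R) T hT h1 hCm) e.symm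

/-- the affine comparison of pseudo-coherence -/
theorem pc_tildeD_iff (m : ℤ) (M : DerivedCategory (ModuleCat.{u} R)) :
    DCoh.IsPseudoCoherentD m ((DCoh.tildeD R).obj M) ↔ DRing.IsPseudoCoherent R m M := by
  constructor
  · intro h
    have hc := Groth.Agent.H47.tilde_preservesFiniteColimits R
    obtain ⟨b, hb⟩ := exists_isLE_of_pc ((DCoh.tildeD R).obj M) m h
    have hMb : M.IsLE b := by
      rw [DerivedCategory.isLE_iff]
      intro i hi
      have hz : IsZero ((tilde.functor R).obj ((homologyFunctor (ModuleCat.{u} R) i).obj M)) :=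
        IsZero.of_iso (DerivedCategory.isZero_of_isLE _ b i hi)
          ((homologyNatIso (tilde.functor R) i).app M).symm
      rw [IsZero.iff_id_eq_zero] at hz ⊢
      apply (tilde.functor R).map_injective
      rw [CategoryTheory.Functor.map_id, CategoryTheory.Functor.map_zero]
      exact hz
    obtain ⟨k, hk⟩ : ∃ k : ℕ, b < m + k := ⟨(b - m + 1).toNat, by omega⟩
    exact (isPseudoCoherent_iff_isNPC R m M).2 (isNPC_of_pc_tildeD_aux R m k M b hMb hk h)
  · exact pc_tildeD_of_isPseudoCoherent R m M

end Main

end Groth.Agent.H33.PCPush
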