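/-
# `PushPC` at ring level, stability under polynomial extensions, composition of charts, and
transitivity of relative pseudo-coherence over a pseudo-coherent morphism (helper33)
-/
import Mathlib
import Groth.Agent.H33.PCPush.TildePC
import Groth.Agent.H35.RelPCPoly
import Groth.Agent.H33.PCPush.ChartRestrict
import Groth.Agent.H33.PCPush.AbsRel

set_option autoImplicit false
universe u
open CategoryTheory CategoryTheory.Limits AlgebraicGeometry Scheme.Modules TopologicalSpace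

attribute [local instance] HasDerivedCategory.standard

namespace Groth.Agent.H33.PCPush

open Groth.Agent.H5.PCAlong Groth.Agent.H5.PCTriangle Groth.Agent.H5.PCSummand
  Groth.Agent.H5.Approx Groth.Agent.H33.PC Groth.Agent.H16.ExactDer
  Groth.Agent.H33.SchemeDer
open Groth.Agent.H28 Groth.Agent.H28.PCohRing Groth.Agent.H28.PCohDer

/-- a tilde module is pseudo-coherent (all degrees) iff the module is, at ring level -/
lemma pmAll_tilde_iff (R : CommRingCat.{u}) (N : ModuleCat.{u} R) :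
    pmAll (Spec R) ((tilde.functor R).obj N) ↔
      ∀ a : ℤ, IsNPC (finFree R) a ((DerivedCategory.singleFunctor (ModuleCat.{u} R) 0).obj N) := by
  have := Groth.Agent.H47.tilde_preservesFiniteLimits R
  have := Groth.Agent.H47.tilde_preservesFiniteColimits R
  have e : (DCoh.tildeD R).obj ((DerivedCategory.singleFunctor (ModuleCat.{u} R) 0).obj N) ≅
      DCoh.inD (Spec R) ((tilde.functor R).obj N) := singleIso (tilde.functor R) N 0
  constructor
  · intro h a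
    rw [← isPseudoCoherent_iff_isNPC, ← pc_tildeD_iff]
    exact isPseudoCoherentD_of_iso e.symm (h a)
  · intro h a
    have := h a
    rw [← isPseudoCoherent_iff_isNPC, ← pc_tildeD_iff] at this
    exact isPseudoCoherentD_of_iso e this

variable {R S : Type u} [CommRing R] [CommRing S]

/-- `PushPC` at ring level -/
theorem pushPC_iff_isNPC (σ : R →+* S) :
    PushPC σ ↔ Function.Surjective σ ∧ ∀ a : ℤ, IsNPC (finFree R) a
      ((DerivedCategory.singleFunctor (ModuleCat.{u} R) 0).obj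
        ((ModuleCat.restrictScalars σ).obj (ModuleCat.of S S))) := by
  unfold PushPC
  rw [← pmAll_tilde_iff (CommRingCat.of R)]
  constructor
  · rintro ⟨h1, h2⟩
    exact ⟨h1, pmAll_of_iso (pushUnitIsoTilde (CommRingCat.ofHom σ)) h2⟩
  · rintro ⟨h1, h2⟩
    exact ⟨h1, pmAll_of_iso (pushUnitIsoTilde (CommRingCat.ofHom σ)).symm h2⟩

/-- `PushPC` is stable under adjoining polynomial variables -/
theorem pushPC_mvPolynomial_map (σ : R →+* S) (h : PushPC σ) (t : ℕ) :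
    PushPC (MvPolynomial.map σ : MvPolynomial (Fin t) R →+* MvPolynomial (Fin t) S) := by
  rw [pushPC_iff_isNPC] at h ⊢
  refine ⟨MvPolynomial.map_surjective σ h.1, ?_⟩
  let _ : Algebra R S := σ.toAlgebra
  exact Groth.Agent.H35.RelPC.isNPC_single_mvPolynomial_map (P := R) (A := S) t h.2


section AffImm

variable {Y : Scheme.{u}}

/-- restriction along the identity does not change `pmAll` -/
lemma pmAll_restrict_id_iff {Z : Scheme.{u}} (N : Z.Modules) :
    pmAll Z ((restrictFunctor (𝟙 Z)).obj N) ↔ pmAll Z N := by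
  have e : ∀ m : ℤ, DCoh.IsPseudoCoherentD m (DCoh.inD Z ((restrictFunctor (𝟙 Z)).obj N)) ↔
      DCoh.IsPseudoCoherentD m (DCoh.inD Z N) := fun m => by
    rw [← pc_restrictD_id_iff m (DCoh.inD Z N)]
    exact ⟨fun h => isPseudoCoherentD_of_iso (singleIso (restrictFunctor (𝟙 Z)) N 0).symm h,
      fun h => isPseudoCoherentD_of_iso (singleIso (restrictFunctor (𝟙 Z)) N 0) h⟩
  exact ⟨fun h m => (e m).1 (h m), fun h m => (e m).2 (h m)⟩

/-- `PushPC` in terms of the closed immersion of an affine open -/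
theorem pushPC_iff_pmAll_affImm (V : Y.Opens) (hV : IsAffineOpen V) {R : Type u} [CommRing R]
    (ψ : R →+* Γ(Y, V)) (hψ : Function.Surjective ψ) :
    PushPC ψ ↔ pmAll _ ((Scheme.Modules.pushforward (affImm V ψ)).obj (Coh.structureModule V)) := by
  have hiso : IsIso V.toSpecΓ := by
    have : IsAffine V := hV
    delta Scheme.Opens.toSpecΓ
    infer_instance
  have w : affImm V ψ ≫ 𝟙 (Spec (CommRingCat.of R)) =
      V.toSpecΓ ≫ Spec.map (CommRingCat.ofHom ψ) := by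
    rw [Category.comp_id]
    rfl
  have hc : V.toSpecΓ.opensRange = Spec.map (CommRingCat.ofHom ψ) ⁻¹ᵁ
      Scheme.Hom.opensRange (𝟙 (Spec (CommRingCat.of R))) := by
    rw [Scheme.Hom.opensRange_of_isIso, Scheme.Hom.opensRange_of_isIso]
    rfl
  have e := (baseChangeIsoGen (Spec.map (CommRingCat.ofHom ψ)) (affImm V ψ)
    (𝟙 (Spec (CommRingCat.of R))) V.toSpecΓ w hc).app (Coh.structureModule (Spec Γ(Y, V))) ≪≫
    (Scheme.Modules.pushforward (affImm V ψ)).mapIso (Scheme.Modules.restrictUnitIso V.toSpecΓ)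
  unfold PushPC
  rw [← pmAll_restrict_id_iff]
  exact ⟨fun h => pmAll_of_iso e h.2, fun h => ⟨hψ, pmAll_of_iso e.symm h⟩⟩

end AffImm


section Comp

variable {X Y S : Scheme.{u}} (f : X ⟶ Y) (g : Y ⟶ S)

/-- composition of charts -/
theorem exists_comp_chart {U : X.Opens} {V : Y.Opens} {W : S.Opens} (hUV : U ≤ f ⁻¹ᵁ V)
    (hVW : V ≤ g ⁻¹ᵁ W) (h : U ≤ (f ≫ g) ⁻¹ᵁ W) {k : ℕ}
    (ψ : MvPolynomial (Fin k) Γ(S, W) →+* Γ(Y, V)) (hψ : DerSch.IsChart g V W hVW ψ)
    (hψpc : PushPC ψ) {n : ℕ} (φ : MvPolynomial (Fin n) Γ(Y, V) →+* Γ(X, U))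
    (hφ : DerSch.IsChart f U V hUV φ) :
    ∃ χ : MvPolynomial (Fin (n + k)) Γ(S, W) →+* Γ(X, U),
      DerSch.IsChart (f ≫ g) U W h χ ∧
      ∀ (m : ℤ) (E : DCoh.D X), DerSch.ChartPC m E U W χ ↔ DerSch.ChartPC m E U V φ := by
  let e : MvPolynomial (Fin (n + k)) Γ(S, W) ≃ₐ[Γ(S, W)]
      MvPolynomial (Fin n) (MvPolynomial (Fin k) Γ(S, W)) :=
    (MvPolynomial.renameEquiv Γ(S, W) finSumFinEquiv.symm).trans
      (MvPolynomial.sumAlgEquiv Γ(S, W) (Fin n) (Fin k))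
  let σ : MvPolynomial (Fin (n + k)) Γ(S, W) →+* MvPolynomial (Fin n) Γ(Y, V) :=
    (MvPolynomial.map ψ).comp (e : _ →+* _)
  have hσ : PushPC σ :=
    pushPC_comp (pushPC_of_bijective _ e.bijective) (pushPC_mvPolynomial_map ψ hψpc n)
  refine ⟨φ.comp σ, ⟨hφ.1.comp hσ.1, ?_⟩, fun m E => ?_⟩
  · refine RingHom.ext (fun c => ?_)
    have h1 : e (MvPolynomial.C c) = MvPolynomial.C (MvPolynomial.C c) := by
      have := e.commutes c
      rw [MvPolynomial.algebraMap_eq, MvPolynomial.algebraMap_apply,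
        MvPolynomial.algebraMap_eq] at this
      exact this
    have h2 := congrArg (fun t => t c) hψ.2
    have h3 := congrArg (fun t => t (g.appLE W V hVW c)) hφ.2
    simp only [RingHom.comp_apply] at h2 h3 ⊢
    change φ (MvPolynomial.map ψ (e (MvPolynomial.C c))) = _
    rw [h1, MvPolynomial.map_C, h2, h3, ← CommRingCat.comp_apply,
      Scheme.Hom.appLE_comp_appLE]
  · rw [chartPC_iff_affPC, chartPC_iff_affPC]
    exact affPC_comp_iff m E U σ hσ φ

end Comp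


section Main

variable {X Y S : Scheme.{u}} (f : X ⟶ Y) (g : Y ⟶ S)

/-- relative pseudo-coherence over a pseudo-coherent base morphism: transitivity -/
theorem isPseudoCoherentRel_iff_comp [LocallyOfFiniteType f] [LocallyOfFiniteType g]
    (hg : ∀ n : ℤ, DerSch.IsNPseudoCoherent g n) (m : ℤ) (E : DCoh.D X) :
    DerSch.IsPseudoCoherentRel f m E ↔ DerSch.IsPseudoCoherentRel (f ≫ g) m E := by
  -- the common local statement
  have key : ∀ (U : X.Opens) (_ : IsAffineOpen U) (V : Y.Opens) (_ : IsAffineOpen V)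
      (W : S.Opens) (_ : IsAffineOpen W) (hUV : U ≤ f ⁻¹ᵁ V) (hVW : V ≤ g ⁻¹ᵁ W)
      (h : U ≤ (f ≫ g) ⁻¹ᵁ W),
      ∃ (n : ℕ) (φ : MvPolynomial (Fin n) Γ(Y, V) →+* Γ(X, U)) (k : ℕ)
        (χ : MvPolynomial (Fin k) Γ(S, W) →+* Γ(X, U)),
        DerSch.IsChart f U V hUV φ ∧ DerSch.IsChart (f ≫ g) U W h χ ∧
          (DerSch.ChartPC m E U W χ ↔ DerSch.ChartPC m E U V φ) := by
    intro U hU V hV W hW hUV hVW h
    obtain ⟨k, ψ, hψ⟩ := exists_isChart_of_finiteType g V W hVW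
      (LocallyOfFiniteType.finiteType_appLE g hW hV hVW)
    obtain ⟨n, φ, hφ⟩ := exists_isChart_of_finiteType f U V hUV
      (LocallyOfFiniteType.finiteType_appLE f hV hU hUV)
    have hψpc : PushPC ψ := (pushPC_iff_pmAll_affImm V hV ψ hψ.1).2
      (pmAll_push_unit_of_isNPseudoCoherent g hg hV hW hVW ψ hψ)
    obtain ⟨χ, hχ, hχ2⟩ := exists_comp_chart f g hUV hVW h ψ hψ hψpc φ hφ
    exact ⟨n, φ, _, χ, hφ, hχ, hχ2 m E⟩
  constructor
  · intro H
    refine ⟨inferInstance, Set.univ, ?_, fun W _ =>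
      ⟨{U | ∃ V : Y.affineOpens, (U : X.Opens) ≤ f ⁻¹ᵁ (V : Y.Opens) ∧
        (V : Y.Opens) ≤ g ⁻¹ᵁ (W : S.Opens)}, ?_, ?_⟩⟩
    · simp only [Set.mem_univ, iSup_pos]
      exact iSup_affineOpens_eq_top S
    · apply le_antisymm
      · refine iSup₂_le fun U hU => ?_
        obtain ⟨V, hUV, hVW⟩ := hU
        exact hUV.trans (f.preimage_mono hVW)
      · intro x hx
        obtain ⟨(V : Y.Opens), hV, hxV, hVW⟩ := Opens.isBasis_iff_nbhd.1 Y.isBasis_affineOpens
          (show f x ∈ g ⁻¹ᵁ (W : S.Opens) from hx)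
        obtain ⟨(U : X.Opens), hU, hxU, hUV⟩ := Opens.isBasis_iff_nbhd.1 X.isBasis_affineOpens
          (show x ∈ f ⁻¹ᵁ V from hxV)
        exact Opens.mem_iSup.2 ⟨⟨U, hU⟩, Opens.mem_iSup.2 ⟨⟨⟨V, hV⟩, hUV, hVW⟩, hxU⟩⟩
    · rintro U ⟨V, hUV, hVW⟩ h
      obtain ⟨n, φ, k, χ, hφ, hχ, hiff⟩ := key U.1 U.2 V.1 V.2 W.1 W.2 hUV hVW h
      exact ⟨k, χ, hχ, hiff.2
        ((isPseudoCoherentRel_iff_forall_chart f m E).1 H U.1 U.2 V.1 V.2 hUV n φ hφ)⟩
  · intro H
    refine ⟨inferInstance, {V | ∃ W : S.affineOpens, (V : Y.Opens) ≤ g ⁻¹ᵁ (W : S.Opens)}, ?_,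
      fun V hV => ⟨{U | (U : X.Opens) ≤ f ⁻¹ᵁ (V : Y.Opens)}, ?_, ?_⟩⟩
    · rw [eq_top_iff]
      intro y _
      obtain ⟨(W : S.Opens), hW, hyW, -⟩ := Opens.isBasis_iff_nbhd.1 S.isBasis_affineOpens
        (show g y ∈ (⊤ : S.Opens) from trivial)
      obtain ⟨(V : Y.Opens), hV, hyV, hVW⟩ := Opens.isBasis_iff_nbhd.1 Y.isBasis_affineOpens
        (show y ∈ g ⁻¹ᵁ W from hyW)
      exact Opens.mem_iSup.2 ⟨⟨V, hV⟩, Opens.mem_iSup.2 ⟨⟨⟨W, hW⟩, hVW⟩, hyV⟩⟩
    · apply le_antisymm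
      · exact iSup₂_le fun U hU => hU
      · intro x hx
        obtain ⟨(U : X.Opens), hU, hxU, hUle⟩ :=
          Opens.isBasis_iff_nbhd.1 X.isBasis_affineOpens hx
        exact Opens.mem_iSup.2 ⟨⟨U, hU⟩, Opens.mem_iSup.2 ⟨hUle, hxU⟩⟩
    · intro U _ hUV
      obtain ⟨W, hVW⟩ := hV
      have h : (U : X.Opens) ≤ (f ≫ g) ⁻¹ᵁ (W : S.Opens) := hUV.trans (f.preimage_mono hVW)
      obtain ⟨n, φ, k, χ, hφ, hχ, hiff⟩ := key U.1 U.2 V.1 V.2 W.1 W.2 hUV hVW h
      exact ⟨n, φ, hφ, hiff.1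
        ((isPseudoCoherentRel_iff_forall_chart (f ≫ g) m E).1 H U.1 U.2 W.1 W.2 h k χ hχ)⟩

end Main

end Groth.Agent.H33.PCPush
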