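/-
# Flat morphisms locally of finite presentation are pseudo-coherent (chart form) (helper33)
-/
import Mathlib
import Groth.Agent.H33.PCPush.RelComp
import Groth.Agent.H35.PCQuotient

set_option autoImplicit false
universe u
open CategoryTheory CategoryTheory.Limits AlgebraicGeometry Scheme.Modules TopologicalSpace

attribute [local instance] HasDerivedCategory.standard

namespace Groth.Agent.H33.PCPush

open Groth.Agent.H5.PCAlong Groth.Agent.H5.PCTriangle Groth.Agent.H5.PCSummand
  Groth.Agent.H5.Approx Groth.Agent.H33.PC Groth.Agent.H16.ExactDer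
  Groth.Agent.H33.SchemeDer
open Groth.Agent.H28 Groth.Agent.H28.PCohRing Groth.Agent.H28.PCohDer

/-- a polynomial presentation of a flat finitely presented algebra is `PushPC` -/
theorem pushPC_of_flat_finitePresentation {R A : Type u} [CommRing R] [CommRing A] [Algebra R A]
    [Module.Flat R A] [Algebra.FinitePresentation R A] {k : ℕ}
    (ψ : MvPolynomial (Fin k) R →+* A) (hψ : Function.Surjective ψ)
    (hc : ∀ r : R, ψ (MvPolynomial.C r) = algebraMap R A r) : PushPC ψ := by
  rw [pushPC_iff_isNPC]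
  refine ⟨hψ, ?_⟩
  let _ : Algebra (MvPolynomial (Fin k) R) A := ψ.toAlgebra
  have : IsScalarTower R (MvPolynomial (Fin k) R) A :=
    IsScalarTower.of_algebraMap_eq (fun r => (hc r).symm)
  have hRB : Groth.Agent.H35.PCHomLocal.PCAlg R (MvPolynomial (Fin k) R) :=
    (Groth.Agent.H35.PCHomLocal.isPseudoCoherentHom_iff R (MvPolynomial (Fin k) R)).1
      (Groth.Agent.H35.TorIndepBC.isPerfectHom_of_flat_of_finitePresentation R
        (MvPolynomial (Fin k) R)).1
  have hRA : Groth.Agent.H35.PCHomLocal.PCAlg R A :=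
    (Groth.Agent.H35.PCHomLocal.isPseudoCoherentHom_iff R A).1
      (Groth.Agent.H35.TorIndepBC.isPerfectHom_of_flat_of_finitePresentation R A).1
  have hBA : Groth.Agent.H35.PCHomLocal.PCAlg (MvPolynomial (Fin k) R) A :=
    Groth.Agent.H35.PCHomLocal.pcAlg_cancel hRB hRA
  have hfin : Module.Finite (MvPolynomial (Fin k) R) A :=
    Module.Finite.of_surjective (Algebra.linearMap (MvPolynomial (Fin k) R) A) hψ
  have hpc : DRing.IsPseudoCoherentModule' (MvPolynomial (Fin k) R) A :=
    (Groth.Agent.H35.PCHomLocal.isPseudoCoherentHom_iff_of_finite (MvPolynomial (Fin k) R) A).1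
      ((Groth.Agent.H35.PCHomLocal.isPseudoCoherentHom_iff (MvPolynomial (Fin k) R) A).2 hBA)
  intro a
  exact IsNPC.of_iso _ ((isPseudoCoherent'_iff (MvPolynomial (Fin k) R) _).mp hpc a)
    ((DerivedCategory.singleFunctor (ModuleCat.{u} (MvPolynomial (Fin k) R)) 0).mapIso
      (Groth.Agent.H28.PCohRestrict.algebraRestrictIso (MvPolynomial (Fin k) R) A))


section Mor

variable {Y S : Scheme.{u}} (g : Y ⟶ S)

/-- a morphism all of whose charts are `PushPC` is pseudo-coherent -/
theorem isNPseudoCoherent_of_forall_pushPC [LocallyOfFiniteType g]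
    (H : ∀ (V : Y.Opens) (_ : IsAffineOpen V) (W : S.Opens) (_ : IsAffineOpen W)
      (hVW : V ≤ g ⁻¹ᵁ W) (k : ℕ) (ψ : MvPolynomial (Fin k) Γ(S, W) →+* Γ(Y, V))
      (_ : DerSch.IsChart g V W hVW ψ), PushPC ψ) (n : ℤ) :
    DerSch.IsNPseudoCoherent g n := by
  change DerSch.IsPseudoCoherentRel g n _
  rw [isPseudoCoherentRel_iff_forall_chart]
  intro V hV W hW hVW k ψ hψ
  have := isClosedImmersion_affImm V hV ψ hψ.1
  rw [chartPC_iff_chartD]
  have hpm := (pushPC_iff_pmAll_affImm V hV ψ hψ.1).1 (H V hV W hW hVW k ψ hψ)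
  refine isPseudoCoherentD_of_iso ?_ (hpm n)
  exact ((chartD V ψ).mapIso ((DerivedCategory.singleFunctorIsoCompQ Y.Modules 0).app _).symm ≪≫
    chartDSingleIso V ψ _ ≪≫
    (DerivedCategory.singleFunctor _ 0).mapIso
      ((Scheme.Modules.pushforward (affImm V ψ)).mapIso
        (Scheme.Modules.restrictUnitIso V.ι))).symm

/-- a flat morphism locally of finite presentation is pseudo-coherent -/
theorem isNPseudoCoherent_of_flat_lfp [Flat g] [LocallyOfFinitePresentation g] (n : ℤ) :
    DerSch.IsNPseudoCoherent g n := by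
  refine isNPseudoCoherent_of_forall_pushPC g (fun V hV W hW hVW k ψ hψ => ?_) n
  let _ : Algebra Γ(S, W) Γ(Y, V) := (g.appLE W V hVW).hom.toAlgebra
  have hfl : Module.Flat Γ(S, W) Γ(Y, V) := Flat.flat_appLE g hW hV hVW
  have hfp : Algebra.FinitePresentation Γ(S, W) Γ(Y, V) :=
    LocallyOfFinitePresentation.finitePresentation_appLE g hW hV hVW
  exact pushPC_of_flat_finitePresentation ψ hψ.1 (fun r => congrArg (fun t => t r) hψ.2)

end Mor

end Groth.Agent.H33.PCPush
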