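/- helper33: level-wise versions of the ring-level description of chart tests for the structure sheaf -/
import Mathlib
import Groth.Agent.H33.PCPush.FlatPC
import Groth.Agent.H28.PCohRing2

set_option autoImplicit false
universe u
open CategoryTheory CategoryTheory.Limits AlgebraicGeometry Scheme.Modules TopologicalSpace

attribute [local instance] HasDerivedCategory.standard

namespace Groth.Agent.H33.PCPush

open Groth.Agent.H5.PCAlong Groth.Agent.H5.PCTriangle Groth.Agent.H5.PCSummand
  Groth.Agent.H5.Approx Groth.Agent.H33.PC Groth.Agent.H16.ExactDer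
  Groth.Agent.H33.SchemeDer
open Groth.Agent.H28 Groth.Agent.H28.PCohRing Groth.Agent.H28.PCohDer

/-- a tilde module in degree zero is `m`-pseudo-coherent iff the module is, at ring level -/
lemma pc_inD_tilde_iff (R : CommRingCat.{u}) (N : ModuleCat.{u} R) (m : ℤ) :
    DCoh.IsPseudoCoherentD m (DCoh.inD (Spec R) ((tilde.functor R).obj N)) ↔
      IsNPC (finFree R) m ((DerivedCategory.singleFunctor (ModuleCat.{u} R) 0).obj N) := by
  have := Groth.Agent.H47.tilde_preservesFiniteLimits R
  have := Groth.Agent.H47.tilde_preservesFiniteColimits R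
  have e : (DCoh.tildeD R).obj ((DerivedCategory.singleFunctor (ModuleCat.{u} R) 0).obj N) ≅
      DCoh.inD (Spec R) ((tilde.functor R).obj N) := singleIso (tilde.functor R) N 0
  rw [← isPseudoCoherent_iff_isNPC, ← pc_tildeD_iff]
  exact ⟨fun h => isPseudoCoherentD_of_iso e.symm h, fun h => isPseudoCoherentD_of_iso e h⟩

variable {R S : Type u} [CommRing R] [CommRing S]

/-- the direct image of the structure sheaf along `Spec σ`, level-wise -/
theorem pc_inD_push_unit_spec_iff (σ : R →+* S) (m : ℤ) :
    DCoh.IsPseudoCoherentD m (DCoh.inD (Spec (.of R)) ((Scheme.Modules.pushforward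
      (Spec.map (CommRingCat.ofHom σ))).obj (Coh.structureModule (Spec (.of S))))) ↔
    IsNPC (finFree R) m ((DerivedCategory.singleFunctor (ModuleCat.{u} R) 0).obj
        ((ModuleCat.restrictScalars σ).obj (ModuleCat.of S S))) := by
  rw [← pc_inD_tilde_iff (CommRingCat.of R)]
  have e := (DerivedCategory.singleFunctor _ 0).mapIso (pushUnitIsoTilde (CommRingCat.ofHom σ))
  exact ⟨fun h => isPseudoCoherentD_of_iso e h, fun h => isPseudoCoherentD_of_iso e.symm h⟩

variable {Y : Scheme.{u}}

/-- the direct image of the structure sheaf along the closed immersion of an affine open,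
level-wise -/
theorem pc_inD_push_unit_affImm_iff (V : Y.Opens) (hV : IsAffineOpen V)
    (ψ : R →+* Γ(Y, V)) (m : ℤ) :
    DCoh.IsPseudoCoherentD m (DCoh.inD _
      ((Scheme.Modules.pushforward (affImm V ψ)).obj (Coh.structureModule V))) ↔
    IsNPC (finFree R) m ((DerivedCategory.singleFunctor (ModuleCat.{u} R) 0).obj
        ((ModuleCat.restrictScalars ψ).obj (ModuleCat.of Γ(Y, V) Γ(Y, V)))) := by
  have hiso : IsIso V.toSpecΓ := by
    have : IsAffine V := hV
    delta Scheme.Opens.toSpecΓ
    infer_instance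
  have w : affImm V ψ ≫ 𝟙 (Spec (CommRingCat.of R)) =
      V.toSpecΓ ≫ Spec.map (CommRingCat.ofHom ψ) := by
    rw [Category.comp_id]
    rfl
  have hc : V.toSpecΓ.opensRange = Spec.map (CommRingCat.ofHom ψ) ⁻¹ᵁ
      Scheme.Hom.opensRange (𝟙 (Spec (CommRingCat.of R))) := by
    rw [Scheme.Hom.opensRange_of_isIso, Scheme.Hom.opensRange_of_isIso]
    rfl
  have e := (baseChangeIsoGen (Spec.map (CommRingCat.ofHom ψ)) (affImm V ψ)
    (𝟙 (Spec (CommRingCat.of R))) V.toSpecΓ w hc).app (Coh.structureModule (Spec Γ(Y, V))) ≪≫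
    (Scheme.Modules.pushforward (affImm V ψ)).mapIso (Scheme.Modules.restrictUnitIso V.toSpecΓ)
  rw [← pc_inD_push_unit_spec_iff]
  have e' := (singleIso (restrictFunctor (𝟙 (Spec (CommRingCat.of R)))) _ 0) ≪≫
    (DerivedCategory.singleFunctor _ 0).mapIso e
  refine Iff.trans ?_ (pc_restrictD_id_iff m (DCoh.inD _ _))
  exact ⟨fun h => isPseudoCoherentD_of_iso e'.symm h, fun h => isPseudoCoherentD_of_iso e' h⟩

/-- the chart test for the structure sheaf, at ring level -/
theorem chartPC_unit_iff {X : Scheme.{u}} (U : X.Opens) (hU : IsAffineOpen U) (V : Y.Opens)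
    {n : ℕ} (φ : MvPolynomial (Fin n) Γ(Y, V) →+* Γ(X, U)) (hφ : Function.Surjective φ) (m : ℤ) :
    DerSch.ChartPC m (DCoh.toD X (DerSch.unitCx X)) U V φ ↔
      IsNPC (finFree (MvPolynomial (Fin n) Γ(Y, V))) m
        ((DerivedCategory.singleFunctor (ModuleCat.{u} (MvPolynomial (Fin n) Γ(Y, V))) 0).obj
          ((ModuleCat.restrictScalars φ).obj (ModuleCat.of Γ(X, U) Γ(X, U)))) := by
  have := isClosedImmersion_affImm U hU φ hφ
  rw [chartPC_iff_chartD, ← pc_inD_push_unit_affImm_iff U hU φ m]
  have e : (chartD U φ).obj (DCoh.toD X (DerSch.unitCx X)) ≅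
      DCoh.inD _ ((Scheme.Modules.pushforward (affImm U φ)).obj (Coh.structureModule U)) :=
    (chartD U φ).mapIso ((DerivedCategory.singleFunctorIsoCompQ X.Modules 0).app _).symm ≪≫
    chartDSingleIso U φ _ ≪≫
    (DerivedCategory.singleFunctor _ 0).mapIso
      ((Scheme.Modules.pushforward (affImm U φ)).mapIso (Scheme.Modules.restrictUnitIso U.ι))
  exact ⟨fun h => isPseudoCoherentD_of_iso e h, fun h => isPseudoCoherentD_of_iso e.symm h⟩

/-- the chart test for the structure sheaf at level `-1`: finite generation of the kernel -/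
theorem chartPC_unit_negOne_iff {X : Scheme.{u}} (U : X.Opens) (hU : IsAffineOpen U)
    (V : Y.Opens) {n : ℕ} (φ : MvPolynomial (Fin n) Γ(Y, V) →+* Γ(X, U))
    (hφ : Function.Surjective φ) :
    DerSch.ChartPC (-1) (DCoh.toD X (DerSch.unitCx X)) U V φ ↔ (RingHom.ker φ).FG := by
  rw [chartPC_unit_iff U hU V φ hφ, isNPC_negOne_single_iff]
  let _ : Algebra (MvPolynomial (Fin n) Γ(Y, V)) Γ(X, U) := φ.toAlgebra
  let l : MvPolynomial (Fin n) Γ(Y, V) →ₗ[MvPolynomial (Fin n) Γ(Y, V)]
      ((ModuleCat.restrictScalars φ).obj (ModuleCat.of Γ(X, U) Γ(X, U))) :=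
    { toFun := fun p => φ p
      map_add' := fun p q => map_add φ p q
      map_smul' := fun p q => by
        change φ (p * q) = φ p * φ q
        exact map_mul φ p q }
  have hl : Function.Surjective l := hφ
  have hker : LinearMap.ker l = RingHom.ker φ := by
    ext p
    rfl
  constructor
  · intro h
    have := Module.FinitePresentation.fg_ker l hl
    rwa [hker] at this
  · intro h
    exact Module.finitePresentation_of_surjective l hl (by rwa [hker])

end Groth.Agent.H33.PCPush
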