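/- helper33: relative pseudo-coherence along a closed immersion is absolute pseudo-coherence of the direct image -/
import Mathlib
import Groth.Agent.H33.PCPush.FlatPC

set_option autoImplicit false
universe u
open CategoryTheory CategoryTheory.Limits AlgebraicGeometry Scheme.Modules TopologicalSpace

attribute [local instance] HasDerivedCategory.standard

namespace Groth.Agent.H33.PCPush

open Groth.Agent.H5.PCAlong Groth.Agent.H5.PCTriangle Groth.Agent.H5.PCSummand
  Groth.Agent.H5.Approx Groth.Agent.H33.PC Groth.Agent.H16.ExactDer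
  Groth.Agent.H33.SchemeDer

variable {X P : Scheme.{u}} (i : X ⟶ P)

/-- the chart of a morphism over an open of the target, through the sections of the target -/
lemma affImm_preimage (V : P.Opens) {R : Type u} [CommRing R] (ι₀ : R →+* Γ(P, V)) :
    affImm (i ⁻¹ᵁ V) ((i.app V).hom.comp ι₀) = (i ∣_ V) ≫ affImm V ι₀ := by
  unfold affImm
  rw [CommRingCat.ofHom_comp, Spec.map_comp, ← Category.assoc, CommRingCat.ofHom_hom,
    Scheme.Opens.toSpecΓ_naturality, Category.assoc]

variable [IsClosedImmersion i]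

/-- the tautological ring map `A[∅] → A` -/
noncomputable abbrev emptyVars (A : Type u) [CommRing A] : MvPolynomial (Fin 0) A →+* A :=
  ((MvPolynomial.isEmptyAlgEquiv A (Fin 0) : MvPolynomial (Fin 0) A ≃ₐ[A] A) : _ →+* _)

/-- the tautological chart of a closed immersion over an affine open of the target -/
noncomputable abbrev closedChart (V : P.Opens) :
    MvPolynomial (Fin 0) Γ(P, V) →+* Γ(X, i ⁻¹ᵁ V) :=
  (i.app V).hom.comp (emptyVars Γ(P, V))

lemma isChart_closedChart (V : P.Opens) (hV : IsAffineOpen V) :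
    DerSch.IsChart i (i ⁻¹ᵁ V) V le_rfl (closedChart i V) := by
  refine ⟨(i.app_surjective V hV).comp (MvPolynomial.isEmptyAlgEquiv Γ(P, V) (Fin 0)).surjective,
    ?_⟩
  refine RingHom.ext (fun a => ?_)
  simp only [RingHom.comp_apply]
  have : emptyVars Γ(P, V) (MvPolynomial.C a) = a := by
    have := (MvPolynomial.isEmptyAlgEquiv Γ(P, V) (Fin 0)).commutes a
    simpa [MvPolynomial.algebraMap_eq] using this
  rw [this, Scheme.Hom.app_eq_appLE]

/-- the chart test for the tautological chart of a closed immersion -/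
theorem chartPC_closedChart_iff (V : P.Opens) (hV : IsAffineOpen V) (m : ℤ) (K : DCoh.D X) :
    DerSch.ChartPC m K (i ⁻¹ᵁ V) V (closedChart i V) ↔
      DCoh.IsPseudoCoherentD m ((DCoh.restrictD V.ι).obj ((pushD i).obj K)) := by
  have hU : IsAffineOpen (i ⁻¹ᵁ V) := hV.preimage i
  have hchart := isChart_closedChart i V hV
  have i1 : IsClosedImmersion (affImm (i ⁻¹ᵁ V) (closedChart i V)) :=
    isClosedImmersion_affImm _ hU _ hchart.1
  have hbij : Function.Bijective (emptyVars Γ(P, V)) :=
    (MvPolynomial.isEmptyAlgEquiv Γ(P, V) (Fin 0)).bijective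
  have i2 : IsClosedImmersion (affImm V (emptyVars Γ(P, V))) :=
    isClosedImmersion_affImm V hV _ hbij.2
  have hpm : pmAll _ ((Scheme.Modules.pushforward (affImm V (emptyVars Γ(P, V)))).obj
      (Coh.structureModule V)) :=
    (pushPC_iff_pmAll_affImm V hV _ hbij.2).1 (pushPC_of_bijective _ hbij)
  have hs : affImm (i ⁻¹ᵁ V) (closedChart i V) = (i ∣_ V) ≫ affImm V (emptyVars Γ(P, V)) :=
    affImm_preimage i V _
  rw [chartPC_iff_chartD]
  -- the pushforward along the composite
  have e1 : (chartD (i ⁻¹ᵁ V) (closedChart i V)).obj K ≅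
      (pushD (affImm V (emptyVars Γ(P, V)))).obj
        ((pushD (i ∣_ V)).obj ((DCoh.restrictD (i ⁻¹ᵁ V).ι).obj K)) := by
    let eF : Scheme.Modules.pushforward (affImm (i ⁻¹ᵁ V) (closedChart i V)) ≅
        Scheme.Modules.pushforward (i ∣_ V) ⋙
          Scheme.Modules.pushforward (affImm V (emptyVars Γ(P, V))) :=
      Scheme.Modules.pushforwardCongr hs ≪≫ (Scheme.Modules.pushforwardComp _ _).symm
    exact (Groth.Agent.H33.Glue.mapDerivedCategoryCompIso (Scheme.Modules.pushforward (i ∣_ V))
      (Scheme.Modules.pushforward (affImm V (emptyVars Γ(P, V))))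
      (Scheme.Modules.pushforward (affImm (i ⁻¹ᵁ V) (closedChart i V))) eF.symm).symm.app _
  have e2 : (pushD (i ∣_ V)).obj ((DCoh.restrictD (i ⁻¹ᵁ V).ι).obj K) ≅
      (DCoh.restrictD V.ι).obj ((pushD i).obj K) := ((pushDRestrictIso i V).app K).symm
  constructor
  · intro h
    exact isPseudoCoherentD_of_iso e2
      (pc_of_pc_pushD _ hpm _ m (isPseudoCoherentD_of_iso e1 h))
  · intro h
    exact isPseudoCoherentD_of_iso e1.symm
      (pc_pushD _ hpm _ m (isPseudoCoherentD_of_iso e2.symm h))

/-- **Closed immersions**: relative pseudo-coherence along a closed immersion is absolute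
pseudo-coherence of the direct image. -/
theorem isPseudoCoherentRel_closedImmersion_iff (m : ℤ) (K : DCoh.D X) :
    DerSch.IsPseudoCoherentRel i m K ↔ DCoh.IsPseudoCoherentD m ((pushD i).obj K) := by
  have : LocallyOfFiniteType i := inferInstance
  constructor
  · intro H
    rw [isPseudoCoherentRel_iff_forall_chart] at H
    refine isPseudoCoherentD_of_locally' m _ (fun x => ?_)
    obtain ⟨(V : P.Opens), hV, hx, -⟩ :=
      Opens.isBasis_iff_nbhd.1 P.isBasis_affineOpens (Opens.mem_top x)
    refine ⟨V, V.ι, inferInstance, by simpa using hx, ?_⟩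
    exact (chartPC_closedChart_iff i V hV m K).1
      (H (i ⁻¹ᵁ V) (hV.preimage i) V hV le_rfl 0 (closedChart i V) (isChart_closedChart i V hV))
  · intro H
    refine ⟨inferInstance, Set.univ, ?_, fun V _ =>
      ⟨{⟨i ⁻¹ᵁ (V : P.Opens), V.2.preimage i⟩}, ?_, fun U hU h => ?_⟩⟩
    · simp only [Set.mem_univ, iSup_pos]
      exact iSup_affineOpens_eq_top P
    · simp only [Set.mem_singleton_iff, iSup_iSup_eq_left]
    · obtain rfl : U = ⟨i ⁻¹ᵁ (V : P.Opens), V.2.preimage i⟩ := hU
      exact ⟨0, closedChart i V.1, isChart_closedChart i V.1 V.2,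
        (chartPC_closedChart_iff i V.1 V.2 m K).2 (pc_restrict' m _ _ H)⟩

end Groth.Agent.H33.PCPush
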